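import Cfsg.Agent.Lib.ItoTwo.Defs
import Mathlib.GroupTheory.PGroup
import Mathlib.GroupTheory.Index
import Mathlib.Data.Set.Card
import Mathlib.Combinatorics.Enumerative.DoubleCounting
import Mathlib.Tactic.Linarith
import Mathlib.Tactic.Ring

/-!
# Ito's theorem: elements of prime order fixing a block pointwise have a centre

For a subgroup `M` fixing `B` pointwise and free off `B`, an element `x` of order `s`, where `s`
divides the orbit length of `M` on the other blocks, fixes exactly the blocks through one point of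
`B`.
-/

set_option autoImplicit false
set_option linter.unusedSectionVars false
set_option linter.unusedDecidableInType false

open scoped Pointwise
open MulAction

namespace CfsgLib.Ito

universe u v

variable {G : Type u} {Ω : Type v} [Group G] [MulAction G Ω]

/-- double counting for finite sets -/
theorem sum_ncard_comm {α β : Type*} [Finite α] [Finite β] (s : Finset α) (t : Finset β)
    (r : α → β → Prop) :
    ∑ a ∈ s, {b | b ∈ t ∧ r a b}.ncard = ∑ b ∈ t, {a | a ∈ s ∧ r a b}.ncard := by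
  classical
  have h := Finset.sum_card_bipartiteAbove_eq_sum_card_bipartiteBelow (s := s) (t := t) r
  simp only [Finset.bipartiteAbove, Finset.bipartiteBelow] at h
  simpa only [← Set.ncard_coe_finset, Finset.coe_filter] using h

namespace Des

variable (D : Des G Ω)

theorem smul_mem_blocks {C : Set Ω} (h : C ∈ D.blocks) (g : G) : g • C ∈ D.blocks := by
  obtain ⟨h', rfl⟩ := h
  exact ⟨g * h', mul_smul g h' D.B⟩

theorem base_mem : D.B ∈ D.blocks := mem_orbit_self _

theorem ncard_block {C : Set Ω} (h : C ∈ D.blocks) : C.ncard = D.k := by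
  obtain ⟨g, rfl⟩ := h
  show (g • D.B).ncard = D.k
  rw [← Set.image_smul, Set.ncard_image_of_injective _ (MulAction.injective g), D.card_B]

theorem ncard_trace {C : Set Ω} (h : C ∈ D.blocks) (hne : C ≠ D.B) : (C ∩ D.B).ncard = D.lam :=
  D.meet C h D.B D.base_mem hne

variable [Finite Ω]

theorem ncard_off {C : Set Ω} (h : C ∈ D.blocks) (hne : C ≠ D.B) :
    (C \ D.B).ncard + D.lam = D.k := by
  rw [← D.ncard_trace h hne, add_comm, Set.ncard_inter_add_ncard_sdiff_eq_ncard _ _ (Set.toFinite C)]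
  exact D.ncard_block h

theorem exists_off {C : Set Ω} (h : C ∈ D.blocks) (hne : C ≠ D.B) : ∃ p ∈ C, p ∉ D.B := by
  have h1 := D.ncard_off h hne
  have h2 := D.lam_lt
  obtain ⟨p, hp⟩ := Set.nonempty_of_ncard_ne_zero (s := C \ D.B) (by omega)
  exact ⟨p, hp.1, hp.2⟩

/-- two blocks with the same trace meet only in the trace -/
theorem not_mem_of_trace_eq {C C' : Set Ω} (h : C ∈ D.blocks) (h' : C' ∈ D.blocks) (hC : C ≠ D.B)
    (hne : C ≠ C') (ht : C ∩ D.B = C' ∩ D.B) {p : Ω} (hp : p ∈ C) (hp' : p ∈ C') : p ∈ D.B := by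
  have hsub : C ∩ D.B ⊆ C ∩ C' := fun q hq => ⟨hq.1, (ht ▸ hq : q ∈ C' ∩ D.B).1⟩
  have he : C ∩ D.B = C ∩ C' := Set.eq_of_subset_of_ncard_le hsub
    (by rw [D.meet C h C' h' hne, D.ncard_trace h hC]) (Set.toFinite _)
  exact (he ▸ (⟨hp, hp'⟩ : p ∈ C ∩ C') : p ∈ C ∩ D.B).2

end Des

namespace Semireg

variable {D : Des G Ω} (S : Semireg D)

theorem smul_B {x : G} (hx : x ∈ S.M) : x • D.B = D.B := by
  rw [← Set.image_smul]
  exact Set.EqOn.image_eq_self fun b hb => S.fix_B x hx b hb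

theorem fixed_eq {x : G} (hx : x ∈ S.M) (hx1 : x ≠ 1) : {p : Ω | x • p = p} = D.B := by
  ext p
  exact ⟨fun h => by_contra fun hp => hx1 (S.free x hx p hp h), fun h => S.fix_B x hx p h⟩

theorem trace_smul {x : G} (hx : x ∈ S.M) (C : Set Ω) : (x • C) ∩ D.B = C ∩ D.B := by
  ext b
  refine and_congr_left fun hb => ?_
  rw [Set.mem_smul_set_iff_inv_smul_mem, S.fix_B _ (S.M.inv_mem hx) b hb]

theorem smul_ne_B {x : G} (hx : x ∈ S.M) {C : Set Ω} (hne : C ≠ D.B) : x • C ≠ D.B := fun h =>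
  hne (smul_left_cancel x (h.trans (S.smul_B hx).symm))

theorem ncard_fixed_blocks {x : G} (hx : x ∈ S.M) (hx1 : x ≠ 1) :
    {C ∈ D.blocks | x • C = C}.ncard = D.k := by
  rw [← D.fix_eq x, S.fixed_eq hx hx1, D.card_B]

variable [Finite Ω]

theorem fixed_thru_sub {x : G} {p : Ω} :
    {C ∈ D.blocks | x • C = C ∧ p ∈ C} ⊆ {C ∈ D.blocks | p ∈ C ∧ x • p ∈ C} :=
  fun C hC => ⟨hC.1, hC.2.2, by
    simpa [hC.2.1] using Set.smul_mem_smul_set (a := x) hC.2.2⟩

/-- every outside point lies on exactly `lam` fixed blocks -/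
theorem ncard_fixed_thru {x : G} (hx : x ∈ S.M) (hx1 : x ≠ 1) {p : Ω} (hp : p ∉ D.B) :
    {C ∈ D.blocks | x • C = C ∧ p ∈ C}.ncard = D.lam := by
  classical
  cases nonempty_fintype Ω
  let FB : Finset (Set Ω) := Finset.univ.filter fun C => C ∈ D.blocks ∧ x • C = C
  let out : Finset Ω := Finset.univ.filter fun q => q ∉ D.B
  have hset : ∀ q, {C | C ∈ FB ∧ q ∈ C} = {C ∈ D.blocks | x • C = C ∧ q ∈ C} := fun q => by
    ext C; simp [FB, and_assoc]
  have hle : ∀ q ∈ out, {C | C ∈ FB ∧ q ∈ C}.ncard ≤ D.lam := fun q hq => by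
    have hqB : q ∉ D.B := (Finset.mem_filter.1 hq).2
    rw [hset, ← D.join q (x • q) fun e => hx1 (S.free x hx q hqB e.symm)]
    exact Set.ncard_le_ncard (fixed_thru_sub (D := D)) (Set.toFinite _)
  have hFB : FB.card = D.k := by
    rw [← S.ncard_fixed_blocks hx hx1, ← Set.ncard_coe_finset]
    congr 1; ext C; simp [FB]
  have hBF : D.B ∈ FB := by simp [FB, D.base_mem, S.smul_B hx]
  have hout : out.card + D.k = Nat.card Ω := by
    rw [← D.card_B, ← Set.ncard_coe_finset, ← Set.ncard_add_ncard_compl D.B (Set.toFinite _) (Set.toFinite _)]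
    rw [add_comm]; congr 2; ext q; simp [out]
  have hcount := sum_ncard_comm out FB fun q C => q ∈ C
  have hrow : ∀ C ∈ FB, {q | q ∈ out ∧ q ∈ C}.ncard + (if C = D.B then 0 else D.lam) =
      (if C = D.B then 0 else D.k) := fun C hC => by
    have he : {q | q ∈ out ∧ q ∈ C} = C \ D.B := by ext q; simp [out, and_comm]
    rw [he]
    split_ifs with h
    · rw [h]; simp
    · exact D.ncard_off (Finset.mem_filter.1 hC).2.1 h
  have hsum := Finset.sum_congr rfl hrow
  rw [Finset.sum_add_distrib, Finset.sum_ite, Finset.sum_ite] at hsum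
  simp only [Finset.sum_const_zero, zero_add, Finset.sum_const, smul_eq_mul] at hsum
  have hne : (FB.filter fun C => ¬ C = D.B).card + 1 = D.k := by
    rw [← hFB, Finset.filter_ne', Finset.card_erase_add_one hBF]
  have htot : ∑ q ∈ out, {C | C ∈ FB ∧ q ∈ C}.ncard = ∑ q ∈ out, D.lam := by
    rw [hcount, Finset.sum_const, smul_eq_mul]
    have hp' := D.param
    have h1 := D.add_two_le
    have hl := D.lam_lt
    obtain ⟨a, ha⟩ : ∃ a, D.k = a + 1 := ⟨D.k - 1, by omega⟩
    rw [← hout, ha] at hp'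
    simp only [← add_assoc, Nat.add_sub_cancel] at hp'
    rw [ha] at hne hsum
    have hf : (FB.filter fun C => ¬ C = D.B).card = a := by omega
    rw [hf] at hsum
    nlinarith
  have h := (Finset.sum_eq_sum_iff_of_le hle).1 htot p (by simp [out, hp])
  rwa [hset] at h

theorem fixed_thru {x : G} (hx : x ∈ S.M) (hx1 : x ≠ 1) {p : Ω} (hp : p ∉ D.B) :
    {C ∈ D.blocks | x • C = C ∧ p ∈ C} = {C ∈ D.blocks | p ∈ C ∧ x • p ∈ C} := by
  refine Set.eq_of_subset_of_ncard_le (fixed_thru_sub (D := D)) (le_of_eq ?_) (Set.toFinite _)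
  rw [S.ncard_fixed_thru hx hx1 hp, D.join p (x • p) fun e => hx1 (S.free x hx p hp e.symm)]

theorem fixed_of_mem {x : G} (hx : x ∈ S.M) {p : Ω} (hp : p ∉ D.B) {C : Set Ω} (hC : C ∈ D.blocks)
    (h1 : p ∈ C) (h2 : x • p ∈ C) : x • C = C := by
  by_cases hx1 : x = 1
  · rw [hx1, one_smul]
  · exact ((Set.ext_iff.1 (S.fixed_thru hx hx1 hp) C).2 ⟨hC, h1, h2⟩).2.1

/-- whether a block is fixed depends only on its trace on `B` -/
theorem fixed_of_trace {x : G} (hx : x ∈ S.M) {C C' : Set Ω} (hC : C ∈ D.blocks) (hC' : C' ∈ D.blocks)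
    (hne : C ≠ D.B) (hne' : C' ≠ D.B) (ht : C ∩ D.B = C' ∩ D.B) (hfix : x • C = C) : x • C' = C' := by
  classical
  by_cases hx1 : x = 1
  · rw [hx1, one_smul]
  cases nonempty_fintype Ω
  let FB : Finset (Set Ω) := Finset.univ.filter fun E => E ∈ D.blocks ∧ x • E = E
  let f : Ω → ℕ := fun q => {E | E ∈ FB ∧ q ∈ E}.ncard
  have hFB : FB.card = D.k := by
    rw [← S.ncard_fixed_blocks hx hx1, ← Set.ncard_coe_finset]
    congr 1; ext E; simp [FB]
  have key : ∀ E ∈ D.blocks, E ≠ D.B →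
      ∑ q ∈ (E ∩ D.B).toFinset, f q + (D.k - D.lam) * D.lam =
        D.k * D.lam + if x • E = E then D.k - D.lam else 0 := by
    intro E hE hEB
    have h1 : ∑ q ∈ E.toFinset, f q = D.k * D.lam + if x • E = E then D.k - D.lam else 0 := by
      rw [sum_ncard_comm E.toFinset FB fun q F => q ∈ F]
      have hrow : ∀ F ∈ FB, {q | q ∈ E.toFinset ∧ q ∈ F}.ncard =
          D.lam + if F = E then D.k - D.lam else 0 := fun F hF => by
        have he : {q | q ∈ E.toFinset ∧ q ∈ F} = E ∩ F := by ext q; simp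
        rw [he]
        split_ifs with h
        · rw [h, Set.inter_self, D.ncard_block hE]
          have := D.lam_lt; omega
        · rw [add_zero, D.meet E hE F (Finset.mem_filter.1 hF).2.1 (Ne.symm h)]
      rw [Finset.sum_congr rfl hrow, Finset.sum_add_distrib, Finset.sum_const, hFB, smul_eq_mul,
        Finset.sum_ite_eq']
      congr 1
      simp [FB, hE]
    have h2 : ∑ q ∈ (E \ D.B).toFinset, f q = (D.k - D.lam) * D.lam := by
      rw [Finset.sum_congr rfl (g := fun _ => D.lam) fun q hq => ?_, Finset.sum_const, smul_eq_mul,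
        ← Set.ncard_eq_toFinset_card', show (E \ D.B).ncard = D.k - D.lam by
          have := D.ncard_off hE hEB; omega]
      have hqB : q ∉ D.B := (Set.mem_toFinset.1 hq).2
      rw [← S.ncard_fixed_thru hx hx1 hqB]
      show {E | E ∈ FB ∧ q ∈ E}.ncard = _
      congr 1; ext F; simp [FB, and_assoc]
    rw [← h1, ← h2, ← Finset.sum_union]
    · congr 1
      ext q; simp only [Finset.mem_union, Set.mem_toFinset, Set.mem_inter_iff, Set.mem_sdiff]; tauto
    · rw [Finset.disjoint_left]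
      intro q hq hq'
      exact (Set.mem_toFinset.1 hq').2 (Set.mem_toFinset.1 hq).2
  have e := key C hC hne
  have e' := key C' hC' hne'
  have hs : ∑ q ∈ (C ∩ D.B).toFinset, f q = ∑ q ∈ (C' ∩ D.B).toFinset, f q :=
    Finset.sum_congr (Set.toFinset_congr ht) fun _ _ => rfl
  rw [if_pos hfix] at e
  by_contra h
  rw [if_neg h, ← hs, e] at e'
  have := D.lam_lt
  omega

variable [Finite G]

/-- the orbits of `M` on the blocks other than `B` have one length -/
theorem ncard_orbit_eq {C C' : Set Ω} (hC : C ∈ D.blocks) (hC' : C' ∈ D.blocks) (hne : C ≠ D.B)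
    (hne' : C' ≠ D.B) : (orbit S.M C).ncard = (orbit S.M C').ncard := by
  obtain ⟨g, hgB, hgC⟩ := D.two_trans_blocks D.B D.base_mem C hC D.B D.base_mem C' hC' hne.symm hne'.symm
  have hg' : g⁻¹ • D.B = D.B := inv_smul_eq_iff.2 hgB.symm
  have h : orbit S.M C' = (fun E => g • E) '' orbit S.M C := by
    ext E
    constructor
    · rintro ⟨⟨m, hm⟩, rfl⟩
      refine ⟨(g⁻¹ * m * g⁻¹⁻¹) • C, ⟨⟨_, S.normal g⁻¹ hg' m hm⟩, rfl⟩, ?_⟩
      show g • (g⁻¹ * m * g⁻¹⁻¹) • C = m • C'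
      rw [← hgC, ← mul_smul, ← mul_smul]
      congr 1
      simp [mul_assoc]
    · rintro ⟨_, ⟨⟨m, hm⟩, rfl⟩, rfl⟩
      refine ⟨⟨g * m * g⁻¹, S.normal g hgB m hm⟩, ?_⟩
      show (g * m * g⁻¹) • C' = g • m • C
      rw [← hgC, ← mul_smul, ← mul_smul]
      congr 1
      simp [mul_assoc]
  rw [h, Set.ncard_image_of_injective _ (MulAction.injective g)]

theorem orbit_sub {C : Set Ω} (hC : C ∈ D.blocks) (hne : C ≠ D.B) {E : Set Ω} (hE : E ∈ orbit S.M C) :
    E ∈ D.blocks ∧ E ≠ D.B ∧ E ∩ D.B = C ∩ D.B := by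
  obtain ⟨⟨m, hm⟩, rfl⟩ := hE
  exact ⟨D.smul_mem_blocks hC m, S.smul_ne_B hm hne, S.trace_smul hm C⟩

/-- `M` moves every block other than `B` -/
theorem one_lt_orbit [FaithfulSMul G Ω] {C : Set Ω} (hC : C ∈ D.blocks) (hne : C ≠ D.B) :
    1 < (orbit S.M C).ncard := by
  by_contra h
  obtain ⟨x, hx, hx1⟩ := (S.M.bot_or_exists_ne_one).resolve_left S.ne_bot
  have hall : {E ∈ D.blocks | x • E = E} = D.blocks := by
    refine Set.sep_eq_self_iff_mem_true.2 fun E hE => ?_
    by_cases hEB : E = D.B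
    · rw [hEB]; exact S.smul_B hx
    have h1 : (orbit S.M E).ncard ≤ 1 := by rw [S.ncard_orbit_eq hE hC hEB hne]; omega
    exact ((Set.ncard_le_one (Set.toFinite _)).1 h1) _ ⟨⟨x, hx⟩, rfl⟩ _ (mem_orbit_self _)
  have h1 := S.ncard_fixed_blocks hx hx1
  rw [hall, D.card_blocks] at h1
  have := D.add_two_le
  omega

theorem ncard_orbit_mul_stab {C : Set Ω} :
    (orbit S.M C).ncard * Nat.card (stabilizer S.M C) = Nat.card S.M := by
  rw [← MulAction.index_stabilizer, mul_comm, Subgroup.card_mul_index]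

/-- the basic count: `k (D - 1) = lam (i D - 1)`, in the form `k ≤ (2 i - 1) lam` -/
theorem k_add_lam_le [FaithfulSMul G Ω] {C₀ : Set Ω} (hC₀ : C₀ ∈ D.blocks) (hne : C₀ ≠ D.B) :
    D.k + D.lam ≤ 2 * (orbit S.M C₀).ncard * D.lam := by
  classical
  cases nonempty_fintype Ω
  cases nonempty_fintype G
  obtain ⟨p, hpC, hp⟩ := D.exists_off hC₀ hne
  set i := (orbit S.M C₀).ncard with hi
  let X : Finset S.M := Finset.univ.filter fun x => x ≠ 1
  let T : Finset (Set Ω) := Finset.univ.filter fun C => C ∈ D.blocks ∧ p ∈ C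
  have hT : T.card = D.k := by
    rw [← D.deg p, ← Set.ncard_coe_finset]; congr 1; ext C; simp [T]
  have hX : X.card + 1 = Nat.card S.M := by
    rw [Nat.card_eq_fintype_card, ← Finset.card_univ, show X = Finset.univ.erase 1 from Finset.filter_ne' _ _,
      Finset.card_erase_add_one (Finset.mem_univ _)]
  set d := Nat.card (stabilizer S.M C₀) with hd
  have hid : i * d = Nat.card S.M := S.ncard_orbit_mul_stab
  have hiC : 1 < i := S.one_lt_orbit hC₀ hne
  have hrow : ∀ C ∈ T, {x | x ∈ X ∧ x • C = C}.ncard + 1 = d := fun C hC => by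
    obtain ⟨-, hCb, hpC'⟩ := Finset.mem_filter.1 hC
    have hCne : C ≠ D.B := fun e => hp (e ▸ hpC')
    have h1 : Nat.card (stabilizer S.M C) = d := by
      have e1 := S.ncard_orbit_mul_stab (C := C)
      rw [S.ncard_orbit_eq hCb hC₀ hCne hne, ← hid] at e1
      exact Nat.eq_of_mul_eq_mul_left (by omega) e1
    rw [← h1, show Nat.card (stabilizer S.M C) = (stabilizer S.M C : Set S.M).ncard from
      Nat.card_coe_set_eq _]
    rw [show {x | x ∈ X ∧ x • C = C} = (stabilizer S.M C : Set S.M) \ {1} by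
      ext x; simp [X, and_comm]]
    rw [Set.ncard_sdiff_singleton_add_one (by simp) (Set.toFinite _)]
  have hcol : ∀ x ∈ X, {C | C ∈ T ∧ x • C = C}.ncard = D.lam := fun x hx => by
    rw [← S.ncard_fixed_thru x.2 (fun e => (Finset.mem_filter.1 hx).2 (Subtype.ext e)) hp]
    congr 1; ext C
    simp [T, Subgroup.smul_def]; tauto
  have hcount := sum_ncard_comm X T fun x C => x • C = C
  rw [Finset.sum_congr rfl hcol, Finset.sum_const, smul_eq_mul] at hcount
  have hsum := Finset.sum_congr rfl hrow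
  rw [Finset.sum_add_distrib, ← hcount, Finset.sum_const, Finset.sum_const, hT, smul_eq_mul,
    smul_eq_mul, mul_one] at hsum
  have hl := D.lam_pos
  have hd2 : 2 ≤ d := by
    by_contra hlt
    have : d = 1 := by
      have : 0 < d := Nat.card_pos
      omega
    rw [this, mul_one] at hsum hid
    have : 0 < X.card := by omega
    nlinarith
  obtain ⟨e, he⟩ : ∃ e, d = e + 2 := ⟨d - 2, by omega⟩
  obtain ⟨j, hj⟩ : ∃ j, i = j + 2 := ⟨i - 2, by omega⟩
  rw [← hid] at hX
  rw [he] at hsum hX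
  rw [hj] at hX ⊢
  by_contra hlt
  nlinarith [Nat.zero_le (j * e * D.lam), Nat.zero_le (e * D.lam), Nat.zero_le (j * D.lam)]

theorem orbit_length_dvd [FaithfulSMul G Ω] {C₀ : Set Ω} (hC₀ : C₀ ∈ D.blocks) (hne : C₀ ≠ D.B) :
    (orbit S.M C₀).ncard ∣ Nat.card Ω - 1 := by
  classical
  cases nonempty_fintype Ω
  let T : Finset (Set Ω) := Finset.univ.filter fun C => C ∈ D.blocks ∧ C ≠ D.B
  have hT : T.card + 1 = Nat.card Ω := by
    rw [← D.card_blocks, ← Set.ncard_coe_finset, show (T : Set (Set Ω)) = D.blocks \ {D.B} by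
      ext C; simp [T], Set.ncard_sdiff_singleton_add_one D.base_mem (Set.toFinite _)]
  rw [← hT, Nat.add_sub_cancel, Finset.card_eq_sum_card_image (fun C => orbit S.M C) T]
  refine Finset.dvd_sum fun O hO => ?_
  obtain ⟨C, hC, rfl⟩ := Finset.mem_image.1 hO
  obtain ⟨-, hCb, hCne⟩ := Finset.mem_filter.1 hC
  rw [← S.ncard_orbit_eq hCb hC₀ hCne hne, ← Set.ncard_coe_finset]
  refine dvd_of_eq (congrArg Set.ncard ?_)
  ext E
  simp only [Finset.coe_filter, Set.mem_ofPred_eq, orbit_eq_iff]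
  refine ⟨fun h => ?_, fun h => h.2⟩
  obtain ⟨h1, h2, -⟩ := S.orbit_sub hCb hCne h
  exact ⟨by simp [T, h1, h2], h⟩

/-- The point of `B` on the line joining `p` and `x • p`. -/
theorem exists_point_centre [FaithfulSMul G Ω] {C₀ : Set Ω} (hC₀ : C₀ ∈ D.blocks) (hne : C₀ ≠ D.B)
    {s : ℕ} [Fact s.Prime] (hs : s ∣ (orbit S.M C₀).ncard) {x : G} (hx : x ∈ S.M) (hx1 : x ≠ 1)
    (hxs : x ^ s = 1) {p : Ω} (hp : p ∉ D.B) :
    ∃ a ∈ D.B, {C ∈ D.blocks | x • C = C ∧ p ∈ C} = {C ∈ D.blocks | p ∈ C ∧ a ∈ C} := by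
  classical
  cases nonempty_fintype Ω
  set L : Set (Set Ω) := {C ∈ D.blocks | x • C = C ∧ p ∈ C} with hL
  have hLne : ∀ C ∈ L, C ≠ D.B := fun C hC e => hp (e ▸ hC.2.2)
  have hzp : ∀ w : G, w ≠ 1 → w ^ s = 1 → IsPGroup s (Subgroup.zpowers w) := fun w h1 h2 =>
    IsPGroup.of_card (n := 1) (by rw [Nat.card_zpowers, pow_one, orderOf_eq_prime h2 h1])
  suffices ∀ Ls : Finset (Set Ω), ↑Ls ⊆ L → ∃ R : Subgroup G, x ∈ R ∧ IsPGroup s R ∧
      R ≤ Subgroup.centralizer {x} ∧ (∀ r ∈ R, r • D.B = D.B) ∧ (∀ r ∈ R, ∀ C ∈ L, r • C = C) ∧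
      ∀ C ∈ Ls, ∀ b ∈ D.B, (∀ r ∈ R, r • b = b) → b ∈ C by
    obtain ⟨R, hxR, hR, -, -, -, hRL⟩ := this (Set.toFinite L).toFinset (fun E hE => (Set.toFinite L).mem_toFinset.1 hE)
    have hmod := hR.card_modEq_card_fixedPoints Ω
    obtain ⟨a, ha⟩ : (fixedPoints R Ω).Nonempty := by
      rcases Set.eq_empty_or_nonempty (fixedPoints R Ω) with h | h
      · exfalso
        rw [Nat.card_coe_set_eq, h, Set.ncard_empty, Nat.modEq_zero_iff_dvd] at hmod
        have h1 := hs.trans (S.orbit_length_dvd hC₀ hne)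
        have h2 := Nat.dvd_sub hmod h1
        have := D.add_two_le
        rw [show Nat.card Ω - (Nat.card Ω - 1) = 1 by omega, Nat.dvd_one] at h2
        exact (Fact.out : s.Prime).ne_one h2
      · exact h
    have haB : a ∈ D.B := by
      rw [← S.fixed_eq hx hx1]
      exact ha ⟨x, hxR⟩
    refine ⟨a, haB, Set.eq_of_subset_of_ncard_le (fun C hC => ⟨hC.1, hC.2.2, ?_⟩) ?_ (Set.toFinite _)⟩
    · exact hRL C ((Set.toFinite L).mem_toFinset.2 hC) a haB fun r hr => ha ⟨r, hr⟩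
    · rw [D.join p a fun e => hp (e ▸ haB), S.ncard_fixed_thru hx hx1 hp]
  intro Ls
  induction Ls using Finset.induction_on with
  | empty =>
    intro _
    refine ⟨Subgroup.zpowers x, Subgroup.mem_zpowers x, hzp x hx1 hxs, ?_, ?_, ?_, by simp⟩
    · exact Subgroup.zpowers_le.2 (Subgroup.mem_centralizer_singleton_iff.2 rfl)
    · exact fun r hr => (Subgroup.zpowers_le.2 (show x ∈ stabilizer G D.B from S.smul_B hx)) hr
    · exact fun r hr C hC => (Subgroup.zpowers_le.2 (show x ∈ stabilizer G C from hC.2.1)) hr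
  | @insert C Ls _ IH =>
    intro hsub
    rw [Finset.coe_insert, Set.insert_subset_iff] at hsub
    obtain ⟨⟨hCb, hxC, hpC⟩, hsub'⟩ := hsub
    obtain ⟨R, hxR, hR, hRx, hRB, hRL, hRLs⟩ := IH hsub'
    have hCL : C ∈ L := ⟨hCb, hxC, hpC⟩
    have hCne := hLne C hCL
    have hCb' := hCb
    obtain ⟨g, hg⟩ := hCb'
    have hg : g • D.B = C := hg
    have hgi : g⁻¹ • C = D.B := inv_smul_eq_iff.2 hg.symm
    have hne' : g⁻¹ • D.B ≠ D.B := fun h => hCne (by rw [← hg]; exact (inv_smul_eq_iff.1 h).symm)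
    let O : Set (Set Ω) := {E | ∃ m : G, g⁻¹ * m * g ∈ S.M ∧ m • D.B = E}
    have hO : O = (fun E => g • E) '' orbit S.M (g⁻¹ • D.B) := by
      ext E
      constructor
      · rintro ⟨m, hm, rfl⟩
        refine ⟨(g⁻¹ * m * g) • g⁻¹ • D.B, ⟨⟨_, hm⟩, rfl⟩, ?_⟩
        show g • (g⁻¹ * m * g) • g⁻¹ • D.B = m • D.B
        rw [← mul_smul, ← mul_smul]; congr 1; simp [mul_assoc]
      · rintro ⟨_, ⟨⟨m, hm⟩, rfl⟩, rfl⟩
        refine ⟨g * m * g⁻¹, by simpa [mul_assoc] using hm, ?_⟩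
        show (g * m * g⁻¹) • D.B = g • m • g⁻¹ • D.B
        rw [← mul_smul, ← mul_smul, mul_assoc]
    have hOcard : O.ncard = (orbit S.M C₀).ncard := by
      rw [hO, Set.ncard_image_of_injective _ (MulAction.injective g),
        S.ncard_orbit_eq (D.smul_mem_blocks D.base_mem _) hC₀ hne' hne]
    let OA : SubMulAction R (Set Ω) :=
      { carrier := O
        smul_mem' := by
          rintro ⟨r, hr⟩ _ ⟨m, hm, rfl⟩
          have h1 : (g⁻¹ * r * g) • D.B = D.B := by rw [mul_smul, mul_smul, hg, hRL r hr C hCL, hgi]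
          refine ⟨r * m * r⁻¹, ?_, ?_⟩
          · have := S.normal _ h1 _ hm
            simpa [mul_assoc] using this
          · show (r * m * r⁻¹) • D.B = r • m • D.B
            rw [mul_smul, mul_smul, inv_smul_eq_iff.2 (hRB r hr).symm] }
    have hBO : D.B ∈ OA := ⟨1, by simp, one_smul _ _⟩
    have hdvd : s ∣ Nat.card OA := by
      show s ∣ Nat.card O
      rwa [Nat.card_coe_set_eq, hOcard]
    obtain ⟨⟨E, hEO⟩, hEfix, hEne⟩ := hR.exists_fixed_point_of_prime_dvd_card_of_fixed_point OA hdvd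
      (a := ⟨D.B, hBO⟩) (fun r => Subtype.ext (hRB r r.2))
    obtain ⟨m, hm, rfl⟩ := hEO
    have hEB : m • D.B ≠ D.B := fun h => hEne (Subtype.ext h.symm)
    have hmC : ∀ q ∈ C, m • q = q := by
      intro q hq
      rw [← hg, Set.mem_smul_set_iff_inv_smul_mem] at hq
      have h := S.fix_B _ hm _ hq
      rwa [mul_smul, smul_inv_smul, mul_smul, smul_left_cancel_iff] at h
    have hEb : m • D.B ∈ D.blocks := D.smul_mem_blocks D.base_mem m
    have hT : C ∩ D.B ⊆ m • D.B := fun q hq => by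
      rw [Set.mem_smul_set_iff_inv_smul_mem, inv_smul_eq_iff.2 (hmC q hq.1).symm]; exact hq.2
    have hCE : C ≠ m • D.B := fun h => by
      have hmC' : m • C = C := by
        rw [← Set.image_smul]; exact Set.EqOn.image_eq_self fun q hq => hmC q hq
      exact hCne (smul_left_cancel m (hmC'.trans h))
    have hCE' : C ∩ D.B = C ∩ m • D.B :=
      Set.eq_of_subset_of_ncard_le (fun q hq => ⟨hq.1, hT hq⟩)
        (by rw [D.ncard_trace hCb hCne, D.meet C hCb _ hEb hCE]) (Set.toFinite _)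
    have hBE : ∀ b ∈ D.B, b ∈ m • D.B → b ∈ C := by
      have he : C ∩ D.B = (m • D.B) ∩ D.B :=
        Set.eq_of_subset_of_ncard_le (fun q hq => ⟨hT hq, hq.2⟩)
          (by rw [D.ncard_trace hCb hCne, D.ncard_trace hEb hEB]) (Set.toFinite _)
      exact fun b hb hb' => (he ▸ (⟨hb', hb⟩ : b ∈ (m • D.B) ∩ D.B) : b ∈ C ∩ D.B).1
    -- `y` agrees with `x` on `C` off `B`
    set y := m * x * m⁻¹ with hy
    have hy1 : y ≠ 1 := fun h => hx1 (by simpa [hy, mul_assoc] using congrArg (fun w => m⁻¹ * w * m) h)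
    have hys : y ^ s = 1 := by rw [hy, conj_pow, hxs]; simp
    have hminv : ∀ q ∈ C, m⁻¹ • q = q := fun q hq => inv_smul_eq_iff.2 (hmC q hq).symm
    have hyC : ∀ q ∈ C, y • q = x • q := by
      intro q hq
      have hxq : x • q ∈ C := by rw [← hxC]; exact Set.smul_mem_smul_set hq
      rw [hy, mul_smul, mul_smul, hminv q hq, hmC _ hxq]
    have hcomm : ∀ r ∈ R, r * y * r⁻¹ = y := by
      intro r hr
      have hrE : r • m • D.B = m • D.B := congrArg Subtype.val (hEfix ⟨r, hr⟩)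
      have h1 : (m⁻¹ * r * m) • D.B = D.B := by rw [mul_smul, mul_smul, hrE, inv_smul_smul]
      have hmem : m⁻¹ * ((r * y * r⁻¹) * y⁻¹) * m ∈ S.M := by
        have h2 := S.M.mul_mem (S.normal _ h1 x hx) (S.M.inv_mem hx)
        rw [hy]
        simpa [mul_assoc] using h2
      have hrp : r • p ∈ C := by rw [← hRL r hr C hCL]; exact Set.smul_mem_smul_set hpC
      have hrpB : r • p ∉ D.B := by
        rw [← hRB r hr, Set.smul_mem_smul_set_iff]; exact hp
      have hrpE : m⁻¹ • r • p ∉ D.B := by rwa [hminv _ hrp]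
      have hxr : r * x = x * r := (Subgroup.mem_centralizer_singleton_iff.1 (hRx hr))
      have h3 : (r * y * r⁻¹) • r • p = y • r • p := by
        rw [mul_smul, mul_smul, inv_smul_smul, hyC p hpC, hyC _ hrp, ← mul_smul, hxr, mul_smul]
      have h4 : ((r * y * r⁻¹) * y⁻¹) • (y • r • p) = y • r • p := by
        rw [mul_smul, inv_smul_smul, h3]
      have h5 : y • r • p = m • x • m⁻¹ • r • p := by rw [hy, mul_smul, mul_smul]
      have h6 : x • m⁻¹ • r • p ∉ D.B := fun h => hrpE (by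
        rw [← S.smul_B hx, Set.smul_mem_smul_set_iff] at h; exact h)
      have := S.free _ hmem (x • m⁻¹ • r • p) h6 (by
        rw [h5] at h4
        rw [mul_smul, mul_smul, h4, inv_smul_smul])
      have h7 : (r * y * r⁻¹) * y⁻¹ = 1 := by
        simpa [mul_assoc] using congrArg (fun w => m * w * m⁻¹) this
      exact mul_inv_eq_one.1 h7
    have hyx : x * y = y * x := by
      have := hcomm x hxR
      rwa [mul_inv_eq_iff_eq_mul] at this
    have hyB : y • D.B = D.B := by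
      refine Set.eq_of_subset_of_ncard_le ?_ ?_ (Set.toFinite _)
      · rintro _ ⟨b, hb, rfl⟩
        show y • b ∈ D.B
        rw [← S.fixed_eq hx hx1]
        show x • y • b = y • b
        rw [← mul_smul, hyx, mul_smul, S.fix_B x hx b hb]
      · rw [← Set.image_smul, Set.ncard_image_of_injective _ (MulAction.injective y)]
    have hyL : ∀ F ∈ L, y • F = F := by
      intro F hF
      have hpE : m⁻¹ • p ∉ D.B := by rwa [hminv p hpC]
      have h1 : x • m⁻¹ • p ∈ m⁻¹ • F := by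
        rw [Set.mem_smul_set_iff_inv_smul_mem, inv_inv, show m • x • m⁻¹ • p = y • p by
          rw [hy, mul_smul, mul_smul], hyC p hpC, ← hF.2.1]
        exact Set.smul_mem_smul_set hF.2.2
      have := S.fixed_of_mem hx hpE (D.smul_mem_blocks hF.1 m⁻¹)
        (Set.smul_mem_smul_set hF.2.2) h1
      rw [hy, mul_smul, mul_smul, this, smul_inv_smul]
    have hnorm : R ≤ Subgroup.normalizer (Subgroup.zpowers y : Set G) :=
      le_trans (fun r hr => Subgroup.mem_centralizer_singleton_iff.2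
        (mul_inv_eq_iff_eq_mul.1 (hcomm r hr)))
        (le_trans (le_of_eq (by rw [Subgroup.zpowers_eq_closure, Subgroup.centralizer_closure]))
          (Subgroup.centralizer_le_normalizer (Subgroup.zpowers y : Set G) |>.trans le_rfl))
    refine ⟨R ⊔ Subgroup.zpowers y, Subgroup.mem_sup_left hxR,
      hR.to_sup_of_normal_right' (hzp y hy1 hys) hnorm, ?_, ?_, ?_, ?_⟩
    · exact sup_le hRx (Subgroup.zpowers_le.2 (Subgroup.mem_centralizer_singleton_iff.2 hyx.symm))
    · exact fun r hr => (sup_le (fun w hw => (hRB w hw : w ∈ stabilizer G D.B))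
        (Subgroup.zpowers_le.2 (show y ∈ stabilizer G D.B from hyB))) hr
    · exact fun r hr F hF => (sup_le (fun w hw => (hRL w hw F hF : w ∈ stabilizer G F))
        (Subgroup.zpowers_le.2 (show y ∈ stabilizer G F from hyL F hF))) hr
    · intro F hF b hb hbfix
      rcases Finset.mem_insert.1 hF with rfl | hF
      · refine hBE b hb ?_
        have h := hbfix y (Subgroup.mem_sup_right (Subgroup.mem_zpowers y))
        rw [hy, mul_smul, mul_smul, ← eq_inv_smul_iff] at h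
        rw [Set.mem_smul_set_iff_inv_smul_mem, ← S.fixed_eq hx hx1]
        exact h
      · exact hRLs F hF b hb fun r hr => hbfix r (Subgroup.mem_sup_left hr)

/-- An element of prime order dividing the orbit length has a centre. -/
theorem centre_of_prime [FaithfulSMul G Ω] {C₀ : Set Ω} (hC₀ : C₀ ∈ D.blocks) (hne : C₀ ≠ D.B)
    {s : ℕ} [Fact s.Prime] (hs : s ∣ (orbit S.M C₀).ncard) {x : G} (hx : x ∈ S.M) (hx1 : x ≠ 1)
    (hxs : x ^ s = 1) :
    ∃ c ∈ D.B, ∀ C ∈ D.blocks, (x • C = C ↔ C = D.B ∨ c ∈ C) := by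
  classical
  cases nonempty_fintype Ω
  have key := fun p hp => S.exists_point_centre hC₀ hne hs hx hx1 hxs (p := p) hp
  set i := (orbit S.M C₀).ncard with hi
  let F : Ω → Set (Set Ω) := fun a => {C ∈ D.blocks | x • C = C ∧ C ≠ D.B ∧ a ∈ C}
  have big : ∀ p, p ∉ D.B → ∀ a ∈ D.B,
      {C ∈ D.blocks | x • C = C ∧ p ∈ C} = {C ∈ D.blocks | p ∈ C ∧ a ∈ C} → i * D.lam ≤ (F a).ncard := by
    intro p hp a haB he
    let T := ({C ∈ D.blocks | x • C = C ∧ p ∈ C} : Set (Set Ω)).toFinset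
    let U := T.biUnion fun C => (orbit S.M C).toFinset
    have hTp : ∀ C ∈ T, C ∈ D.blocks ∧ x • C = C ∧ p ∈ C := fun C hC => by simpa [T] using hC
    have hU : (U : Set (Set Ω)) ⊆ F a := by
      intro E hE
      obtain ⟨C, hC, hEC⟩ := Finset.mem_biUnion.1 hE
      obtain ⟨hCb, hxC, hpC⟩ := hTp C hC
      have hCne : C ≠ D.B := fun e => hp (e ▸ hpC)
      obtain ⟨h1, h2, h3⟩ := S.orbit_sub hCb hCne (Set.mem_toFinset.1 hEC)
      refine ⟨h1, S.fixed_of_trace hx hCb h1 hCne h2 h3.symm hxC, h2, ?_⟩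
      have haC : a ∈ C := ((Set.ext_iff.1 he C).1 ⟨hCb, hxC, hpC⟩).2.2
      exact (h3.symm ▸ (⟨haC, haB⟩ : a ∈ C ∩ D.B) : a ∈ E ∩ D.B).1
    have hUcard : U.card = i * D.lam := by
      rw [Finset.card_biUnion]
      · rw [Finset.sum_congr rfl (g := fun _ => i) fun C hC => ?_, Finset.sum_const, smul_eq_mul,
          ← Set.ncard_eq_toFinset_card', S.ncard_fixed_thru hx hx1 hp, mul_comm]
        rw [← Set.ncard_eq_toFinset_card']
        exact S.ncard_orbit_eq (hTp C hC).1 hC₀ (fun e => hp (e ▸ (hTp C hC).2.2)) hne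
      · intro C hC C' hC' hCC'
        rw [Function.onFun, Finset.disjoint_left]
        intro E hE hE'
        obtain ⟨hCb, -, hpC⟩ := hTp C hC
        obtain ⟨hCb', -, hpC'⟩ := hTp C' hC'
        have hCne : C ≠ D.B := fun e => hp (e ▸ hpC)
        have hCne' : C' ≠ D.B := fun e => hp (e ▸ hpC')
        exact hp (D.not_mem_of_trace_eq hCb hCb' hCne hCC'
          ((S.orbit_sub hCb hCne (Set.mem_toFinset.1 hE)).2.2.symm.trans
            (S.orbit_sub hCb' hCne' (Set.mem_toFinset.1 hE')).2.2) hpC hpC')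
    rw [← hUcard, ← Set.ncard_coe_finset]
    exact Set.ncard_le_ncard hU (Set.toFinite _)
  have uniq : ∀ p q, p ∉ D.B → q ∉ D.B → ∀ a ∈ D.B, ∀ b ∈ D.B,
      {C ∈ D.blocks | x • C = C ∧ p ∈ C} = {C ∈ D.blocks | p ∈ C ∧ a ∈ C} →
      {C ∈ D.blocks | x • C = C ∧ q ∈ C} = {C ∈ D.blocks | q ∈ C ∧ b ∈ C} → a = b := by
    intro p q hp hq a haB b hbB ha hb
    by_contra hab
    have h1 := big p hp a haB ha
    have h2 := big q hq b hbB hb
    have hunion : (F a ∪ F b).ncard + 1 ≤ D.k := by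
      have hsub : F a ∪ F b ⊆ {C ∈ D.blocks | x • C = C} \ {D.B} := by
        rintro C (hC | hC) <;> exact ⟨⟨hC.1, hC.2.1⟩, hC.2.2.1⟩
      have := Set.ncard_le_ncard hsub (Set.toFinite _)
      rw [← S.ncard_fixed_blocks hx hx1, ← Set.ncard_sdiff_singleton_add_one
        (show D.B ∈ {C ∈ D.blocks | x • C = C} from ⟨D.base_mem, S.smul_B hx⟩) (Set.toFinite _)]
      omega
    have hinter : (F a ∩ F b).ncard + 1 ≤ D.lam := by
      have hsub : F a ∩ F b ⊆ {C ∈ D.blocks | a ∈ C ∧ b ∈ C} \ {D.B} :=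
        fun C hC => ⟨⟨hC.1.1, hC.1.2.2.2, hC.2.2.2.2⟩, hC.1.2.2.1⟩
      have := Set.ncard_le_ncard hsub (Set.toFinite _)
      rw [← D.join a b hab, ← Set.ncard_sdiff_singleton_add_one
        (show D.B ∈ {C ∈ D.blocks | a ∈ C ∧ b ∈ C} from ⟨D.base_mem, haB, hbB⟩) (Set.toFinite _)]
      omega
    have h3 := Set.ncard_union_add_ncard_inter (F a) (F b) (Set.toFinite _) (Set.toFinite _)
    have h4 := S.k_add_lam_le hC₀ hne
    rw [← hi, mul_assoc] at h4
    omega
  obtain ⟨p, -, hp⟩ := D.exists_off hC₀ hne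
  obtain ⟨a, haB, ha⟩ := key p hp
  refine ⟨a, haB, ?_⟩
  have hsub : {C ∈ D.blocks | x • C = C} ⊆ {C ∈ D.blocks | a ∈ C} := by
    rintro C ⟨hC, hxC⟩
    refine ⟨hC, ?_⟩
    by_cases hCB : C = D.B
    · rw [hCB]; exact haB
    obtain ⟨q, hqC, hq⟩ := D.exists_off hC hCB
    obtain ⟨b, hbB, hb⟩ := key q hq
    rw [uniq p q hp hq a haB b hbB ha hb]
    exact ((Set.ext_iff.1 hb C).1 ⟨hC, hxC, hqC⟩).2.2
  have he := Set.eq_of_subset_of_ncard_le hsub
    (by rw [S.ncard_fixed_blocks hx hx1, D.deg a]) (Set.toFinite _)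
  intro C hC
  constructor
  · exact fun h => Or.inr ((Set.ext_iff.1 he C).1 ⟨hC, h⟩).2
  · rintro (rfl | h)
    · exact S.smul_B hx
    · exact ((Set.ext_iff.1 he C).2 ⟨hC, h⟩).2

theorem exists_centre [FaithfulSMul G Ω] :
    ∃ s : ℕ, s.Prime ∧ s ∣ Nat.card S.M ∧ ∀ x ∈ S.M, x ≠ 1 → x ^ s = 1 →
      ∃ c ∈ D.B, ∀ C ∈ D.blocks, (x • C = C ↔ C = D.B ∨ c ∈ C) := by
  obtain ⟨C₀, hC₀, hne⟩ : ∃ C ∈ D.blocks, C ≠ D.B := by
    have h := D.card_blocks
    have := D.add_two_le
    obtain ⟨C, hC, hne⟩ := Set.exists_ne_of_one_lt_ncard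
      (show 1 < (orbit G D.B).ncard by omega) D.B
    exact ⟨C, hC, hne⟩
  obtain ⟨s, hs, hsd⟩ := Nat.exists_prime_and_dvd (S.one_lt_orbit hC₀ hne).ne'
  have : Fact s.Prime := ⟨hs⟩
  exact ⟨s, hs, hsd.trans ⟨_, S.ncard_orbit_mul_stab.symm⟩,
    fun x hx hx1 hxs => S.centre_of_prime hC₀ hne hsd hx hx1 hxs⟩

end Semireg

end CfsgLib.Ito
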