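import Mathlib.GroupTheory.GroupAction.MultipleTransitivity
import Mathlib.LinearAlgebra.Projectivization.Basic
import Mathlib.Algebra.Field.Defs

/-!
# Ito's theorem on doubly transitive groups with an unfaithful orbit: interfaces

`Des` is the symmetric design made of the translates of one orbit `B` of the subgroup of index `n`.
`Semireg` is a non-trivial subgroup fixing `B` pointwise, normal in the stabiliser of `B` and
semiregular off `B`. `Transl` is the elementary abelian translation group with axis `B`.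
`ProjModel` identifies the design with the hyperplanes of a projective space.
-/

set_option autoImplicit false

open scoped Pointwise

namespace CfsgLib.Ito

/-- The symmetric design on `Ω` whose blocks are the translates of `B`. -/
structure Des (G Ω : Type*) [Group G] [MulAction G Ω] where
  B : Set Ω
  k : ℕ
  lam : ℕ
  card_B : B.ncard = k
  two_le : 2 ≤ k
  add_two_le : k + 2 ≤ Nat.card Ω
  lam_pos : 0 < lam
  lam_lt : lam < k
  param : lam * (Nat.card Ω - 1) = k * (k - 1)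
  card_blocks : (MulAction.orbit G B).ncard = Nat.card Ω
  deg : ∀ p : Ω, {C ∈ MulAction.orbit G B | p ∈ C}.ncard = k
  join : ∀ p q : Ω, p ≠ q → {C ∈ MulAction.orbit G B | p ∈ C ∧ q ∈ C}.ncard = lam
  meet : ∀ C ∈ MulAction.orbit G B, ∀ C' ∈ MulAction.orbit G B, C ≠ C' → (C ∩ C').ncard = lam
  fix_eq : ∀ g : G,
    {p : Ω | g • p = p}.ncard = {C ∈ MulAction.orbit G B | g • C = C}.ncard
  two_trans : MulAction.IsMultiplyPretransitive G Ω 2
  two_trans_blocks : ∀ C ∈ MulAction.orbit G B, ∀ C' ∈ MulAction.orbit G B,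
    ∀ E ∈ MulAction.orbit G B, ∀ E' ∈ MulAction.orbit G B,
    C ≠ C' → E ≠ E' → ∃ g : G, g • C = E ∧ g • C' = E'
  trans_B : ∀ a ∈ B, ∀ b ∈ B, ∃ g : G, g • B = B ∧ g • a = b
  trans_off : ∀ a ∉ B, ∀ b ∉ B, ∃ g : G, g • B = B ∧ g • a = b

variable {G Ω : Type*} [Group G] [MulAction G Ω]

/-- the blocks -/
abbrev Des.blocks (D : Des G Ω) : Set (Set Ω) := MulAction.orbit G D.B

/-- `x` fixes every block through `c` -/
def Des.Centre (D : Des G Ω) (x : G) (c : Ω) : Prop :=
  ∀ C ∈ D.blocks, c ∈ C → x • C = C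

/-- a non-trivial subgroup fixing `B` pointwise, normal in the stabiliser of `B`, free off `B` -/
structure Semireg (D : Des G Ω) where
  M : Subgroup G
  ne_bot : M ≠ ⊥
  fix_B : ∀ x ∈ M, ∀ b ∈ D.B, x • b = b
  free : ∀ x ∈ M, ∀ p ∉ D.B, x • p = p → x = 1
  normal : ∀ g : G, g • D.B = D.B → ∀ x ∈ M, g * x * g⁻¹ ∈ M

/-- the translation group with axis `B` -/
structure Transl (D : Des G Ω) extends Semireg D where
  p : ℕ
  hp : p.Prime
  comm : ∀ x ∈ M, ∀ y ∈ M, x * y = y * x
  exponent : ∀ x ∈ M, x ^ p = 1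
  z : ℕ
  n : ℕ
  one_lt_z : 1 < z
  two_le_n : 2 ≤ n
  card_M : Nat.card M = z ^ n
  card_off : Nat.card Ω = D.k + z ^ n
  k_eq : D.k * (z - 1) + 1 = z ^ n
  lam_eq : D.lam * (z - 1) + 1 = z ^ (n - 1)
  sigma_eq : D.k = D.lam + z ^ (n - 1)
  centre : ∀ x ∈ M, x ≠ 1 →
    ∃ c ∈ D.B, ∀ C ∈ D.blocks, (x • C = C ↔ C = D.B ∨ c ∈ C)
  card_centre : ∀ c ∈ D.B, {x : G | x ∈ M ∧ D.Centre x c}.ncard = z

/-- the design is the design of points and hyperplanes of a projective space -/
structure ProjModel (D : Des G Ω) (n : ℕ) (K : Type) [Field K] where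
  φ : Ω ≃ Projectivization K (Fin (n + 1) → K)
  block_hyper : ∀ C ∈ D.blocks, ∃ W : Submodule K (Fin (n + 1) → K),
    Module.finrank K W = n ∧ ∀ p : Ω, p ∈ C ↔ (φ p).submodule ≤ W
  hyper_block : ∀ W : Submodule K (Fin (n + 1) → K), Module.finrank K W = n →
    ∃ C ∈ D.blocks, ∀ p : Ω, p ∈ C ↔ (φ p).submodule ≤ W

end CfsgLib.Ito
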