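import Cfsg.Agent.Lib.ItoTwo.Defs
import Cfsg.Agent.S3704
import Mathlib

/-!
# The symmetric design of an intransitive subgroup of index equal to the degree

The translates of one orbit of such a subgroup form a symmetric design (Fisher's inequality), and
every element fixes as many blocks as points, so the group is doubly transitive on the blocks.
-/

set_option autoImplicit false

open scoped Pointwise

namespace CfsgLib.Ito

open MulAction Finset

universe u v

section Count

variable {Ω : Type v} [Fintype Ω]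

/-- membership as a number -/
noncomputable def incid (C : Set Ω) (p : Ω) : ℕ := by classical exact if p ∈ C then 1 else 0

omit [Fintype Ω] in
theorem incid_mul (C : Set Ω) (p : Ω) : incid C p * incid C p = incid C p := by
  classical
  simp only [incid]; split_ifs <;> simp

theorem sum_incid (C : Set Ω) : ∑ p, incid C p = C.ncard := by
  classical
  simp only [incid, sum_boole, Set.ncard_eq_toFinset_card']
  simp [Set.toFinset]

theorem sum_incid_mul (C C' : Set Ω) : ∑ p, incid C p * incid C' p = (C ∩ C').ncard := by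
  classical
  rw [← sum_incid]
  refine sum_congr rfl fun p _ => ?_
  simp only [incid, Set.mem_inter_iff]
  by_cases h : p ∈ C <;> by_cases h' : p ∈ C' <;> simp [h, h']

omit [Fintype Ω] in
theorem sum_incid_blocks (Bl : Set (Set Ω)) [Fintype Bl] (p q : Ω) :
    ∑ C : Bl, incid (C : Set Ω) p * incid (C : Set Ω) q = {C ∈ Bl | p ∈ C ∧ q ∈ C}.ncard := by
  classical
  calc ∑ C : Bl, incid (C : Set Ω) p * incid (C : Set Ω) q
      = ∑ C : Bl, if p ∈ (C : Set Ω) ∧ q ∈ (C : Set Ω) then 1 else 0 := by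
        refine sum_congr rfl fun C _ => ?_
        by_cases h : p ∈ (C : Set Ω) <;> by_cases h' : q ∈ (C : Set Ω) <;> simp [incid, h, h']
    _ = {C : Bl | p ∈ (C : Set Ω) ∧ q ∈ (C : Set Ω)}.ncard := by
        rw [sum_boole, Set.ncard_eq_toFinset_card']
        simp
    _ = _ := by
        rw [← Set.ncard_image_of_injective _ Subtype.val_injective]
        congr 1
        ext C
        simp
        tauto

variable (Bl : Set (Set Ω)) [Fintype Bl] {r l k : ℕ}
  (hk : ∀ C ∈ Bl, C.ncard = k) (hr : ∀ p : Ω, {C ∈ Bl | p ∈ C}.ncard = r)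
  (hl : ∀ p q : Ω, p ≠ q → {C ∈ Bl | p ∈ C ∧ q ∈ C}.ncard = l)

include hr hl in
omit [Fintype Ω] in
/-- The entries of `N Nᵀ`. -/
theorem pair_count [DecidableEq Ω] (p q : Ω) :
    ∑ C : Bl, incid (C : Set Ω) p * incid (C : Set Ω) q = if p = q then r else l := by
  rw [sum_incid_blocks]
  split_ifs with h
  · subst h; simpa using hr p
  · exact hl p q h

include hk hr in
theorem count_flags : Fintype.card Ω * r = Fintype.card Bl * k := by
  classical
  have h : ∀ p : Ω, ∑ C : Bl, incid (C : Set Ω) p = r := fun p => by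
    rw [← hr p]
    calc ∑ C : Bl, incid (C : Set Ω) p = ∑ C : Bl, incid (C : Set Ω) p * incid (C : Set Ω) p :=
          sum_congr rfl fun C _ => (incid_mul _ _).symm
      _ = _ := by rw [sum_incid_blocks]; simp
  calc Fintype.card Ω * r = ∑ p : Ω, ∑ C : Bl, incid (C : Set Ω) p := by simp [h]
    _ = ∑ C : Bl, ∑ p : Ω, incid (C : Set Ω) p := sum_comm
    _ = _ := by simp [sum_incid, fun C : Bl => hk C C.2]

include hk hr hl in
theorem count_pairs (p : Ω) : r * k = r + (Fintype.card Ω - 1) * l := by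
  classical
  calc r * k = (∑ C : Bl, incid (C : Set Ω) p) * k := by
        congr 1
        have h := pair_count Bl hr hl p p
        simp only [incid_mul, if_true] at h
        exact h.symm
    _ = ∑ C : Bl, ∑ q : Ω, incid (C : Set Ω) p * incid (C : Set Ω) q := by
        rw [sum_mul]
        refine sum_congr rfl fun C _ => ?_
        rw [← mul_sum, sum_incid, hk C C.2]
    _ = ∑ q : Ω, if p = q then r else l := by
        rw [sum_comm]
        exact sum_congr rfl fun q _ => pair_count Bl hr hl p q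
    _ = _ := by
        rw [← add_sum_erase _ _ (mem_univ p), if_pos rfl]
        congr 1
        rw [sum_congr rfl fun q hq => if_neg (Ne.symm (ne_of_mem_erase hq))]
        simp

include hr hl in
theorem transpose_comp [DecidableEq Ω] (x : Ω → ℚ) (p : Ω) :
    ∑ C : Bl, (incid (C : Set Ω) p : ℚ) * ∑ q, (incid (C : Set Ω) q : ℚ) * x q
      = ((r : ℚ) - l) * x p + l * ∑ q, x q := by
  calc ∑ C : Bl, (incid (C : Set Ω) p : ℚ) * ∑ q, (incid (C : Set Ω) q : ℚ) * x q
      = ∑ q, (if p = q then (r : ℚ) else l) * x q := by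
        simp only [mul_sum]
        rw [sum_comm]
        refine sum_congr rfl fun q _ => ?_
        simp only [← mul_assoc, ← Nat.cast_mul, ← sum_mul, ← Nat.cast_sum, pair_count Bl hr hl p q]
        split_ifs <;> rfl
    _ = ∑ q, ((l : ℚ) * x q + if p = q then ((r : ℚ) - l) * x q else 0) := by
        refine sum_congr rfl fun q _ => ?_
        split_ifs <;> ring
    _ = _ := by
        rw [sum_add_distrib, ← mul_sum, sum_ite_eq, if_pos (mem_univ p)]
        ring

include hr hl in
theorem incid_injective (hlr : l < r) (x : Ω → ℚ)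
    (hx : ∀ C : Bl, ∑ q, (incid (C : Set Ω) q : ℚ) * x q = 0) : x = 0 := by
  classical
  have hlr' : (0 : ℚ) < (r : ℚ) - l := sub_pos.2 (by exact_mod_cast hlr)
  have h : ∀ p, ((r : ℚ) - l) * x p + l * ∑ q, x q = 0 := fun p => by
    rw [← transpose_comp Bl hr hl x p]
    simp [hx]
  have hsum : ∑ q, x q = 0 := by
    have h2 := Finset.sum_eq_zero (s := (univ : Finset Ω)) fun p _ => h p
    rw [sum_add_distrib, ← mul_sum, sum_const, nsmul_eq_mul, ← mul_assoc, ← add_mul] at h2
    refine (mul_eq_zero.1 h2).resolve_left (ne_of_gt ?_)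
    positivity
  funext p
  have h1 := h p
  rw [hsum, mul_zero, add_zero] at h1
  exact (mul_eq_zero.1 h1).resolve_left hlr'.ne'

/-- The incidence map. -/
noncomputable def incidLin (Bl : Set (Set Ω)) : (Ω → ℚ) →ₗ[ℚ] (Bl → ℚ) where
  toFun x C := ∑ q, (incid (C : Set Ω) q : ℚ) * x q
  map_add' x y := funext fun C => by simp [mul_add, sum_add_distrib]
  map_smul' c x := funext fun C => by
    simp only [Pi.smul_apply, smul_eq_mul, RingHom.id_apply, mul_sum]
    exact sum_congr rfl fun q _ => by ring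

include hr hl in
/-- Fisher's inequality. -/
theorem fisher (hlr : l < r) : Fintype.card Ω ≤ Fintype.card Bl := by
  classical
  let L := incidLin Bl
  have hL : Function.Injective L := (injective_iff_map_eq_zero L).2 fun x hx =>
    incid_injective Bl hr hl hlr x fun C => congrFun hx C
  have h := LinearMap.finrank_le_finrank_of_injective hL
  rwa [Module.finrank_fintype_fun_eq_card, Module.finrank_fintype_fun_eq_card] at h

include hk hr hl in
/-- In a square design two blocks meet in `l` points. -/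
theorem meet_eq (hlr : l < r) (hb : Fintype.card Bl = Fintype.card Ω) (C₀ C₁ : Bl) (hne : C₀ ≠ C₁) :
    ((C₀ : Set Ω) ∩ C₁).ncard = l := by
  classical
  let L := incidLin Bl
  have hL : Function.Injective L := (injective_iff_map_eq_zero L).2 fun x hx =>
    incid_injective Bl hr hl hlr x fun C => congrFun hx C
  have hsurj : Function.Surjective L := (LinearMap.injective_iff_surjective_of_finrank_eq_finrank
    (by rw [Module.finrank_fintype_fun_eq_card, Module.finrank_fintype_fun_eq_card, hb])).1 hL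
  have hinj : ∀ y : Bl → ℚ, (∀ p, ∑ C : Bl, (incid (C : Set Ω) p : ℚ) * y C = 0) → y = 0 := by
    intro y hy
    obtain ⟨x, rfl⟩ := hsurj y
    suffices x = 0 by rw [this, map_zero]
    refine incid_injective Bl hr hl hlr x fun C => ?_
    -- `N Nᵀ` is positive definite
    have h : ∀ p, ((r : ℚ) - l) * x p + l * ∑ q, x q = 0 := fun p => by
      rw [← transpose_comp Bl hr hl x p]; exact hy p
    have h2 : ∑ C : Bl, (L x C) ^ 2 = 0 := by
      have : ∑ C : Bl, (L x C) ^ 2 =
          ∑ p, x p * ∑ C : Bl, (incid (C : Set Ω) p : ℚ) * L x C := by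
        simp only [mul_sum]
        rw [sum_comm]
        refine sum_congr rfl fun C _ => ?_
        calc (L x C) ^ 2 = (∑ p, (incid (C : Set Ω) p : ℚ) * x p) * L x C := by rw [sq]; rfl
          _ = _ := by rw [sum_mul]; exact sum_congr rfl fun p _ => by ring
      rw [this]
      exact sum_eq_zero fun p _ => by rw [hy p, mul_zero]
    have h3 := (sum_eq_zero_iff_of_nonneg fun D _ => sq_nonneg (L x D)).1 h2 C (mem_univ C)
    exact pow_eq_zero_iff two_ne_zero |>.1 h3
  obtain hΩ | hΩ := isEmpty_or_nonempty Ω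
  · exact absurd (Subtype.ext (Subsingleton.elim (C₀ : Set Ω) C₁)) hne
  have hrk : (r : ℕ) = k := by
    have h := count_flags Bl hk hr
    rw [hb] at h
    exact Nat.eq_of_mul_eq_mul_left Fintype.card_pos h
  have key : (fun C : Bl => ((((C : Set Ω) ∩ C₁).ncard : ℕ) : ℚ) -
      ((if C = C₁ then (r : ℚ) - l else 0) + l)) = 0 := by
    refine hinj _ fun p => ?_
    have h1 : ∑ C : Bl, (incid (C : Set Ω) p : ℚ) * (((C : Set Ω) ∩ C₁).ncard : ℕ) =
        ((r : ℚ) - l) * (incid (C₁ : Set Ω) p) + l * k := by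
      have hk1 : ((k : ℕ) : ℚ) = ∑ q, ((incid (C₁ : Set Ω) q : ℕ) : ℚ) := by
        rw [← Nat.cast_sum, sum_incid, hk C₁ C₁.2]
      rw [hk1, ← transpose_comp Bl hr hl (fun q => (incid (C₁ : Set Ω) q : ℚ)) p]
      refine sum_congr rfl fun C _ => ?_
      rw [← sum_incid_mul, Nat.cast_sum]
      simp only [Nat.cast_mul]
    have h2 : ∑ C : Bl, (incid (C : Set Ω) p : ℚ) = k := by
      have h := pair_count Bl hr hl p p
      simp only [incid_mul, if_true] at h
      rw [← hrk, ← Nat.cast_sum, h]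
    simp only [mul_sub, mul_add, sum_sub_distrib, sum_add_distrib, mul_ite, mul_zero, sum_ite_eq',
      mem_univ, if_true, ← sum_mul, h1, h2]
    ring
  have h := congrFun key C₀
  simp only [Pi.zero_apply, if_neg hne, zero_add, sub_eq_zero] at h
  exact_mod_cast h

end Count

variable {G : Type u} {Ω : Type v} [Group G] [MulAction G Ω]

/-- The translates of one orbit of an intransitive subgroup of index `|Ω|` form a symmetric design. -/
theorem exists_des [Finite G] [Finite Ω] [FaithfulSMul G Ω] (h2 : MulAction.IsMultiplyPretransitive G Ω 2)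
    (H : Subgroup G) (hidx : H.index = Nat.card Ω) (hnt : ¬ MulAction.IsPretransitive H Ω)
    (hfix : ∀ a : Ω, ∃ h : H, h • a ≠ a) (a : Ω) :
    ∃ D : Des G Ω, D.B = MulAction.orbit H a ∧ MulAction.stabilizer G D.B = H := by
  classical
  have := Fintype.ofFinite Ω
  have : IsPretransitive G Ω := isPretransitive_of_is_two_pretransitive
  have horb : Nat.card (orbitRel.Quotient H Ω) = 2 := Cfsg.Agent.S3704.result h2 H hidx hnt hfix
  set B : Set Ω := orbit H a with hB
  set k := B.ncard with hkdef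
  set n := Nat.card Ω with hn
  have haB : a ∈ B := mem_orbit_self a
  obtain ⟨c, hc⟩ : ∃ c, c ∉ B := by
    by_contra hall
    push Not at hall
    refine hnt ⟨fun x y => ?_⟩
    obtain ⟨g, hg⟩ := hall x
    obtain ⟨h, hh⟩ := hall y
    refine ⟨h * g⁻¹, ?_⟩
    simp only at hg hh
    rw [mul_smul, ← hg, inv_smul_smul, hh]
  have hcompl : ∀ x, x ∉ B → x ∈ orbit H c := by
    intro x hx
    have hcard2 : Fintype.card (orbitRel.Quotient H Ω) = 2 := by rw [← Nat.card_eq_fintype_card]; exact horb
    by_contra hxc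
    have h3 : ({Quotient.mk'' a, Quotient.mk'' c, Quotient.mk'' x} : Finset (orbitRel.Quotient H Ω)).card = 3 := by
      rw [card_eq_three]
      refine ⟨_, _, _, ?_, ?_, ?_, rfl⟩ <;>
        (intro h; rw [Quotient.eq'', orbitRel_apply] at h)
      · exact hc (mem_orbit_symm.1 h)
      · exact hx (mem_orbit_symm.1 h)
      · exact hxc (mem_orbit_symm.1 h)
    have := card_le_univ ({Quotient.mk'' a, Quotient.mk'' c, Quotient.mk'' x} : Finset (orbitRel.Quotient H Ω))
    omega
  have hk2 : 2 ≤ k := by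
    obtain ⟨h, hh⟩ := hfix a
    exact (Set.one_lt_ncard (Set.toFinite _)).2 ⟨h • a, mem_orbit a h, a, haB, hh⟩
  have hk2' : k + 2 ≤ n := by
    have h1 : 2 ≤ Bᶜ.ncard := by
      obtain ⟨h, hh⟩ := hfix c
      refine (Set.one_lt_ncard (Set.toFinite _)).2 ⟨h • c, fun hm => hc ?_, c, hc, hh⟩
      rw [hB, ← orbit_eq_iff.2 hm] 
      exact ⟨h⁻¹, inv_smul_smul h c⟩
    have := Set.ncard_add_ncard_compl B
    omega
  -- the stabiliser of the block
  have hHB : H ≤ stabilizer G B := fun h hh => by
    rw [mem_stabilizer_iff]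
    exact smul_orbit (⟨h, hh⟩ : H) a
  have hstab_le : (stabilizer G B).index ≤ n := by
    rw [← hidx]
    exact Nat.le_of_dvd (Nat.pos_of_ne_zero Subgroup.index_ne_zero_of_finite)
      (Subgroup.index_dvd_of_le hHB)
  have : Fintype (orbit G B) := Fintype.ofFinite _
  set Bl : Set (Set Ω) := orbit G B with hBl
  have hk : ∀ C ∈ Bl, C.ncard = k := by
    rintro _ ⟨g, rfl⟩
    exact Set.ncard_smul_set g B
  have hsmul : ∀ (g : G), ∀ C ∈ Bl, g • C ∈ Bl := fun g C hC => by
    obtain ⟨x, rfl⟩ := hC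
    exact ⟨g * x, mul_smul g x B⟩
  -- constant counts
  obtain ⟨r, hr⟩ : ∃ r, ∀ p : Ω, {C ∈ Bl | p ∈ C}.ncard = r := by
    refine ⟨{C ∈ Bl | a ∈ C}.ncard, fun p => ?_⟩
    obtain ⟨g, rfl⟩ := exists_smul_eq G a p
    refine Eq.trans ?_ (Set.ncard_image_of_injective _ (MulAction.injective (β := Set Ω) g))
    congr 1
    ext C
    simp only [Set.mem_image, Set.mem_ofPred_eq]
    constructor
    · rintro ⟨h1, h2⟩
      exact ⟨g⁻¹ • C, ⟨hsmul _ _ h1, Set.mem_inv_smul_set_iff.2 h2⟩, smul_inv_smul g C⟩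
    · rintro ⟨C', ⟨h1, h2⟩, rfl⟩
      exact ⟨hsmul _ _ h1, Set.smul_mem_smul_set h2⟩
  have hac : a ≠ c := fun h => hc (h ▸ haB)
  obtain ⟨l, hl⟩ : ∃ l, ∀ p q : Ω, p ≠ q → {C ∈ Bl | p ∈ C ∧ q ∈ C}.ncard = l := by
    refine ⟨{C ∈ Bl | a ∈ C ∧ c ∈ C}.ncard, fun p q hpq => ?_⟩
    obtain ⟨g, rfl, rfl⟩ := is_two_pretransitive_iff.1 h2 hac hpq
    refine Eq.trans ?_ (Set.ncard_image_of_injective _ (MulAction.injective (β := Set Ω) g))
    congr 1
    ext C
    simp only [Set.mem_image, Set.mem_ofPred_eq]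
    constructor
    · rintro ⟨h1, h2, h3⟩
      exact ⟨g⁻¹ • C, ⟨hsmul _ _ h1, Set.mem_inv_smul_set_iff.2 h2, Set.mem_inv_smul_set_iff.2 h3⟩,
        smul_inv_smul g C⟩
    · rintro ⟨C', ⟨h1, h2, h3⟩, rfl⟩
      exact ⟨hsmul _ _ h1, Set.smul_mem_smul_set h2, Set.smul_mem_smul_set h3⟩
  have hr0 : 0 < r := by
    rw [← hr a]
    exact Set.ncard_pos (Set.toFinite _) |>.2 ⟨B, mem_orbit_self B, haB⟩
  have hcount : r * (k - 1) = (n - 1) * l := by
    have h := count_pairs Bl hk hr hl a
    rw [Nat.mul_sub_one, h, hn, Nat.card_eq_fintype_card]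
    omega
  have hlr : l < r := by
    by_contra hle
    have h1 : (n - 1) * r ≤ (n - 1) * l := Nat.mul_le_mul_left _ (by omega)
    rw [← hcount, mul_comm (n - 1)] at h1
    have := Nat.le_of_mul_le_mul_left h1 hr0
    omega
  have hb : Fintype.card Bl = n := by
    refine le_antisymm ?_ ?_
    · rwa [← Nat.card_eq_fintype_card, Nat.card_coe_set_eq, hBl, ← index_stabilizer]
    · rw [hn, Nat.card_eq_fintype_card]
      exact fisher Bl hr hl hlr
  have hblocks : Bl.ncard = n := by rw [← Nat.card_coe_set_eq, Nat.card_eq_fintype_card, hb]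
  have hHeq : stabilizer G B = H := by
    refine le_antisymm (Subgroup.relIndex_eq_one.1 ?_) hHB
    have h := Subgroup.relIndex_mul_index hHB
    rw [hidx, index_stabilizer, ← hBl, hblocks] at h
    exact (mul_eq_right₀ (by omega)).1 h
  have hrk : r = k := by
    have h := count_flags Bl hk hr
    rw [hb, ← Nat.card_eq_fintype_card] at h
    exact Nat.eq_of_mul_eq_mul_left (by omega) h
  subst hrk
  have hl0 : 0 < l := by
    by_contra h
    have : l = 0 := by omega
    rw [this, mul_zero, Nat.mul_eq_zero] at hcount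
    omega
  have hmeet : ∀ C ∈ Bl, ∀ C' ∈ Bl, C ≠ C' → (C ∩ C').ncard = l := fun C hC C' hC' hne =>
    meet_eq Bl hk hr hl hlr (by rw [hb, hn, Nat.card_eq_fintype_card]) ⟨C, hC⟩ ⟨C', hC'⟩
      fun h => hne (congrArg Subtype.val h)
  -- as many fixed blocks as fixed points
  have hfixeq : ∀ g : G, {p : Ω | g • p = p}.ncard = {C ∈ Bl | g • C = C}.ncard := by
    intro g
    have hsum : ∑ p : Ω, {C ∈ Bl | p ∈ C ∧ g • p ∈ C}.ncard = ∑ C : Bl, ((C : Set Ω) ∩ (g⁻¹ • (C : Set Ω))).ncard := by
      calc ∑ p : Ω, {C ∈ Bl | p ∈ C ∧ g • p ∈ C}.ncard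
          = ∑ p : Ω, ∑ C : Bl, incid (C : Set Ω) p * incid (C : Set Ω) (g • p) :=
            sum_congr rfl fun p _ => (sum_incid_blocks Bl p _).symm
        _ = ∑ C : Bl, ∑ p : Ω, incid (C : Set Ω) p * incid (C : Set Ω) (g • p) := sum_comm
        _ = _ := by
          refine sum_congr rfl fun C _ => ?_
          rw [← sum_incid_mul]
          refine sum_congr rfl fun p _ => ?_
          simp only [incid, Set.mem_inv_smul_set_iff]
    have hleft : ∀ p : Ω, {C ∈ Bl | p ∈ C ∧ g • p ∈ C}.ncard = l + if g • p = p then k - l else 0 := by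
      intro p
      split_ifs with h
      · simp only [h, and_self, hr]; omega
      · rw [hl p _ (Ne.symm h), add_zero]
    have hright : ∀ C : Bl, ((C : Set Ω) ∩ (g⁻¹ • (C : Set Ω))).ncard =
        l + if g • (C : Set Ω) = C then k - l else 0 := by
      intro C
      split_ifs with h
      · rw [inv_smul_eq_iff.2 h.symm, Set.inter_self, hk C C.2]; omega
      · rw [hmeet _ C.2 _ (hsmul _ _ C.2) fun e => h (eq_inv_smul_iff.1 e), add_zero]
    simp only [hleft, hright, sum_add_distrib, sum_const, smul_eq_mul, ← sum_filter, card_univ, hb] at hsum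
    rw [hn, Nat.card_eq_fintype_card, Nat.add_left_cancel_iff] at hsum
    have h := Nat.eq_of_mul_eq_mul_right (by omega) hsum
    calc {p : Ω | g • p = p}.ncard = _ := by rw [Set.ncard_eq_toFinset_card']; simp
      _ = _ := h
      _ = {C : Bl | g • (C : Set Ω) = C}.ncard := by rw [Set.ncard_eq_toFinset_card']; simp
      _ = _ := by
        rw [← Set.ncard_image_of_injective _ Subtype.val_injective]
        congr 1
        ext C
        simp [and_comm]
  -- double transitivity on blocks
  have horbBl : Nat.card (orbitRel.Quotient H Bl) = 2 := by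
    have := Fintype.ofFinite H
    have hfx : ∀ h : H, Fintype.card (fixedBy Bl h) = Fintype.card (fixedBy Ω h) := by
      intro h
      rw [← Nat.card_eq_fintype_card, ← Nat.card_eq_fintype_card, Nat.card_coe_set_eq, Nat.card_coe_set_eq]
      refine Eq.trans ?_ (hfixeq (h : G)).symm
      rw [← Set.ncard_image_of_injective _ Subtype.val_injective]
      congr 1
      ext C
      simp only [Set.mem_image, mem_fixedBy, Set.mem_ofPred_eq]
      constructor
      · rintro ⟨x, hx, rfl⟩
        exact ⟨x.2, congrArg Subtype.val hx⟩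
      · rintro ⟨h1, h2⟩
        exact ⟨⟨C, h1⟩, Subtype.ext h2, rfl⟩
    have : Fintype (orbitRel.Quotient H Bl) := Fintype.ofFinite _
    have : Fintype (orbitRel.Quotient H Ω) := Fintype.ofFinite _
    have e1 := sum_card_fixedBy_eq_card_orbits_mul_card_group H Bl
    have e2 := sum_card_fixedBy_eq_card_orbits_mul_card_group H Ω
    rw [sum_congr rfl fun h _ => hfx h, e2] at e1
    rw [← horb, Nat.card_eq_fintype_card, Nat.card_eq_fintype_card]
    exact Nat.eq_of_mul_eq_mul_right Fintype.card_pos e1.symm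
  let B₀ : Bl := ⟨B, mem_orbit_self B⟩
  have hHfix : ∀ h : H, h • B₀ = B₀ := fun h => Subtype.ext (mem_stabilizer_iff.1 (hHB h.2))
  have hHtrans : ∀ C D : Bl, C ≠ B₀ → D ≠ B₀ → ∃ h : H, h • C = D := by
    intro C D hC hD
    by_contra hno
    have : Fintype (orbitRel.Quotient H Bl) := Fintype.ofFinite _
    rw [Nat.card_eq_fintype_card] at horbBl
    have h3 : ({Quotient.mk'' B₀, Quotient.mk'' C, Quotient.mk'' D} : Finset (orbitRel.Quotient H Bl)).card = 3 := by
      rw [card_eq_three]
      refine ⟨_, _, _, ?_, ?_, ?_, rfl⟩ <;>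
        (intro h; rw [Quotient.eq'', orbitRel_apply] at h; obtain ⟨x, hx⟩ := h; simp only at hx)
      · exact hC (((smul_left_cancel_iff x).1 (hx.trans (hHfix x).symm)))
      · exact hD (((smul_left_cancel_iff x).1 (hx.trans (hHfix x).symm)))
      · exact hno ⟨x⁻¹, by rw [← hx, inv_smul_smul]⟩
    have := card_le_univ ({Quotient.mk'' B₀, Quotient.mk'' C, Quotient.mk'' D} : Finset (orbitRel.Quotient H Bl))
    omega
  refine ⟨{
    B := B
    k := k
    lam := l
    card_B := rfl
    two_le := hk2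
    add_two_le := hk2'
    lam_pos := hl0
    lam_lt := hlr
    param := by rw [mul_comm l]; exact hcount.symm
    card_blocks := hblocks
    deg := hr
    join := hl
    meet := hmeet
    fix_eq := hfixeq
    two_trans := h2
    two_trans_blocks := ?_
    trans_B := ?_
    trans_off := ?_ }, rfl, hHeq⟩
  · intro C hC C' hC' E hE E' hE' hne hne'
    obtain ⟨x, rfl⟩ := hC
    obtain ⟨y, rfl⟩ := hE
    simp only at hne hne' ⊢
    obtain ⟨h, hh⟩ := hHtrans ⟨x⁻¹ • C', hsmul _ _ hC'⟩ ⟨y⁻¹ • E', hsmul _ _ hE'⟩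
      (fun e => hne (eq_inv_smul_iff.1 (congrArg Subtype.val e).symm))
      (fun e => hne' (eq_inv_smul_iff.1 (congrArg Subtype.val e).symm))
    have hh' : (h : G) • x⁻¹ • C' = y⁻¹ • E' := congrArg Subtype.val hh
    refine ⟨y * h * x⁻¹, ?_, ?_⟩
    · rw [mul_smul, mul_smul, inv_smul_smul, mem_stabilizer_iff.1 (hHB h.2)]
    · rw [mul_smul, mul_smul, hh', smul_inv_smul]
  · intro p hp q hq
    obtain ⟨g, rfl⟩ := hp
    obtain ⟨h, rfl⟩ := hq
    refine ⟨((h * g⁻¹ : H) : G), mem_stabilizer_iff.1 (hHB (h * g⁻¹ : H).2), ?_⟩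
    show (h * g⁻¹) • g • a = h • a
    rw [mul_smul, inv_smul_smul]
  · intro p hp q hq
    obtain ⟨g, rfl⟩ := hcompl p hp
    obtain ⟨h, rfl⟩ := hcompl q hq
    refine ⟨((h * g⁻¹ : H) : G), mem_stabilizer_iff.1 (hHB (h * g⁻¹ : H).2), ?_⟩
    show (h * g⁻¹) • g • c = h • c
    rw [mul_smul, inv_smul_smul]

end CfsgLib.Ito
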