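import Cfsg.Agent.Lib.OstromWagner.Field
import Cfsg.Agent.Lib.OstromWagner.SpreadSet

/-!
# Coordinates for a partition with transvections

A partition of a finite abelian group into subgroups of order `z`, closed under sums and with all
transvections, is the set of lines of a vector space over a field with `z` elements: the graphs
between two members of a frame form a spread set with additively closed inverses.
-/

set_option autoImplicit false
set_option linter.unusedSectionVars false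
set_option linter.style.haveILetI false

namespace CfsgLib.Ito.Spread

universe u v

variable {V : Type u} [AddCommGroup V] [Finite V] {ι : Type v}

/-- The hypotheses. -/
structure Hyp (Z : ι → AddSubgroup V) (z n : ℕ) : Prop where
  one_lt : 1 < z
  two_le : 2 ≤ n
  card_V : Nat.card V = z ^ n
  card_Z : ∀ i, Nat.card (Z i) = z
  part : ∀ x : V, x ≠ 0 → ∃! i, x ∈ Z i
  closed : ∀ (s : Set ι) (j : ι) (x : V), x ∈ (⨆ i ∈ s, Z i) → x ≠ 0 → x ∈ Z j →
    Z j ≤ ⨆ i ∈ s, Z i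
  tv : ∀ (W : AddSubgroup V) (c d : ι), Nat.card W = z ^ (n - 1) →
    (∀ j (x : V), x ∈ W → x ≠ 0 → x ∈ Z j → Z j ≤ W) → Z c ≤ W → ¬ Z d ≤ W →
    ∀ x ∈ Z d, x ≠ 0 → ∀ y ∈ Z c, ∃ f : V ≃+ V, (∀ w ∈ W, f w = w) ∧ f x = x + y ∧
      (∀ v, f v - v ∈ Z c) ∧ ∀ i, ∃ j, ∀ v, v ∈ Z i ↔ f v ∈ Z j

variable {Z : ι → AddSubgroup V} {z n : ℕ}

/-- the sum map of a list of members -/
def sumHom (Z : ι → AddSubgroup V) {k : ℕ} (j : Fin k → ι) : (∀ l, Z (j l)) →+ V where
  toFun a := ∑ l, (a l : V)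
  map_zero' := by simp
  map_add' a b := by simp [Finset.sum_add_distrib]

theorem sumHom_apply {k : ℕ} (j : Fin k → ι) (a : ∀ l, Z (j l)) :
    sumHom Z j a = ∑ l, (a l : V) := rfl

theorem range_sumHom {k : ℕ} (j : Fin k → ι) :
    (sumHom Z j).range = ⨆ i ∈ Set.range j, Z i := by
  classical
  refine le_antisymm ?_ (iSup₂_le fun i hi => ?_)
  · rintro _ ⟨a, rfl⟩
    rw [sumHom_apply]
    exact sum_mem fun l _ =>
      le_iSup₂ (f := fun i (_ : i ∈ Set.range j) => Z i) (j l) ⟨l, rfl⟩ (a l).2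
  · obtain ⟨l, rfl⟩ := hi
    intro x hx
    refine ⟨Pi.single l ⟨x, hx⟩, ?_⟩
    rw [sumHom_apply, Finset.sum_eq_single l]
    · rw [Pi.single_eq_same]
    · intro b _ hb; rw [Pi.single_eq_of_ne hb]; rfl
    · exact fun h => absurd (Finset.mem_univ l) h

theorem exists_frame (H : Hyp Z z n) : ∀ k ≤ n, ∃ j : Fin k → ι,
    Function.Injective (sumHom Z j) := by
  classical
  intro k
  induction k with
  | zero => exact fun _ => ⟨Fin.elim0, fun a b _ => funext fun l => l.elim0⟩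
  | succ k ih =>
    intro hk
    obtain ⟨j, hj⟩ := ih (by omega)
    have hcard : Nat.card (sumHom Z j).range = z ^ k := by
      rw [← Nat.card_congr (AddMonoidHom.ofInjective hj).toEquiv, Nat.card_pi]
      simp [H.card_Z]
    have hne : (sumHom Z j).range ≠ ⊤ := fun h => by
      rw [h, AddSubgroup.card_top, H.card_V] at hcard
      have := Nat.pow_right_injective H.one_lt hcard
      omega
    obtain ⟨x, hx⟩ : ∃ x, x ∉ (sumHom Z j).range := by
      by_contra hc
      push Not at hc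
      exact hne (eq_top_iff.2 fun x _ => hc x)
    obtain ⟨i, hi, -⟩ := H.part x fun h => hx (h ▸ zero_mem _)
    refine ⟨Fin.cons i j, (injective_iff_map_eq_zero _).2 fun a ha => ?_⟩
    rw [sumHom_apply, Fin.sum_univ_succ] at ha
    let b : ∀ l, Z (j l) := fun l => ⟨(a l.succ : V), by
      have := (a l.succ).2
      simpa only [Fin.cons_succ] using this⟩
    have hb : sumHom Z j b = -(a 0 : V) := by
      rw [eq_neg_iff_add_eq_zero, add_comm]
      exact ha
    have h0 : (a 0 : V) = 0 := by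
      by_contra h0
      have hmem : (a 0 : V) ∈ Z i := by
        have := (a 0).2
        simpa only [Fin.cons_zero] using this
      have hR : (a 0 : V) ∈ ⨆ l ∈ Set.range j, Z l := by
        rw [← range_sumHom]
        exact neg_mem_iff.1 (hb ▸ AddMonoidHom.mem_range.2 ⟨b, rfl⟩)
      exact hx (by rw [range_sumHom]; exact H.closed _ i _ hR h0 hmem hi)
    have hb0 : b = 0 := hj (by rw [hb, h0, neg_zero, map_zero])
    refine funext fun l => Subtype.ext ?_
    induction l using Fin.cases with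
    | zero => exact h0
    | succ l => exact congrArg (fun c : ∀ m, Z (j m) => (c l : V)) hb0

/-- A frame with the decomposition. -/
structure Frame (Z : ι → AddSubgroup V) (n : ℕ) where
  j : Fin n → ι
  E : (∀ l, Z (j l)) ≃+ V
  E_apply : ∀ a, E a = ∑ l, (a l : V)

theorem nonempty_frame (H : Hyp Z z n) : Nonempty (Frame Z n) := by
  obtain ⟨j, hj⟩ := exists_frame H n le_rfl
  haveI : ∀ l, Finite (Z (j l)) := fun l => inferInstance
  have hbij : Function.Bijective (sumHom Z j) :=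
    (Nat.bijective_iff_injective_and_card _).2 ⟨hj, by simp [Nat.card_pi, H.card_Z, H.card_V]⟩
  exact ⟨⟨j, AddEquiv.ofBijective (sumHom Z j) hbij, fun a => rfl⟩⟩

namespace Frame

variable (Φ : Frame Z n)

/-- the sum of the other members -/
def W (m : Fin n) : AddSubgroup V := ⨆ i ∈ Φ.j '' {m}ᶜ, Z i

theorem le_W {l m : Fin n} (h : l ≠ m) : Z (Φ.j l) ≤ Φ.W m :=
  le_iSup₂ (f := fun i (_ : i ∈ Φ.j '' {m}ᶜ) => Z i) (Φ.j l) ⟨l, h, rfl⟩

/-- the projection -/
def proj (m : Fin n) : V →+ Z (Φ.j m) :=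
  (Pi.evalAddMonoidHom (fun l => ↥(Z (Φ.j l))) m).comp Φ.E.symm.toAddMonoidHom

theorem E_single [DecidableEq (Fin n)] (m : Fin n) (x : Z (Φ.j m)) :
    Φ.E (Pi.single m x) = (x : V) := by
  rw [Φ.E_apply, Finset.sum_eq_single m]
  · rw [Pi.single_eq_same]
  · intro b _ hb; rw [Pi.single_eq_of_ne hb]; rfl
  · exact fun h => absurd (Finset.mem_univ m) h

theorem proj_coe {l m : Fin n} (x : Z (Φ.j l)) (h : l ≠ m) : Φ.proj m (x : V) = 0 := by
  classical
  rw [← Φ.E_single l x]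
  show Φ.E.symm (Φ.E (Pi.single l x)) m = 0
  rw [AddEquiv.symm_apply_apply, Pi.single_eq_of_ne h.symm]

theorem proj_self (m : Fin n) (x : Z (Φ.j m)) : Φ.proj m (x : V) = x := by
  classical
  conv_lhs => rw [← Φ.E_single m x]
  show Φ.E.symm (Φ.E (Pi.single m x)) m = x
  rw [AddEquiv.symm_apply_apply, Pi.single_eq_same]

theorem ker_proj (m : Fin n) : (Φ.proj m).ker = Φ.W m := by
  classical
  refine le_antisymm (fun v hv => ?_) (iSup₂_le ?_)
  · rw [← Φ.E.apply_symm_apply v, Φ.E_apply]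
    refine sum_mem fun l _ => ?_
    by_cases h : l = m
    · subst h
      have h0 : Φ.E.symm v l = 0 := hv
      rw [h0]
      exact zero_mem _
    · exact Φ.le_W h (Φ.E.symm v l).2
  · rintro _ ⟨l, hl, rfl⟩ x hx
    exact Φ.proj_coe ⟨x, hx⟩ hl

theorem card_W (H : Hyp Z z n) (m : Fin n) : Nat.card (Φ.W m) = z ^ (n - 1) := by
  have hsurj : Function.Surjective (Φ.proj m) := fun x => ⟨x, Φ.proj_self m x⟩
  have h := AddSubgroup.card_eq_card_quotient_mul_card_addSubgroup (Φ.proj m).ker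
  rw [Nat.card_congr (QuotientAddGroup.quotientKerEquivOfSurjective _ hsurj).toEquiv, H.card_Z,
    Φ.ker_proj, H.card_V] at h
  have hn : z ^ n = z * z ^ (n - 1) := by
    rw [← pow_succ', Nat.sub_add_cancel (by have := H.two_le; omega)]
  rw [hn] at h
  exact (Nat.eq_of_mul_eq_mul_left (by have := H.one_lt; omega) h).symm

theorem not_mem_W (m : Fin n) {x : Z (Φ.j m)} (hx : x ≠ 0) : (x : V) ∉ Φ.W m := fun h => by
  rw [← Φ.ker_proj] at h
  exact hx ((Φ.proj_self m x).symm.trans h)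

theorem exists_ne_zero (H : Hyp Z z n) (m : Fin n) : ∃ x : Z (Φ.j m), x ≠ 0 := by
  haveI : Nontrivial (Z (Φ.j m)) :=
    Finite.one_lt_card_iff_nontrivial.1 (by rw [H.card_Z]; exact H.one_lt)
  exact _root_.exists_ne 0

theorem not_le_W (H : Hyp Z z n) (m : Fin n) : ¬ Z (Φ.j m) ≤ Φ.W m := fun h => by
  obtain ⟨x, hx⟩ := Φ.exists_ne_zero H m
  exact Φ.not_mem_W m hx (h x.2)

/-- the graphs -/
def T (l m : Fin n) : Set (Z (Φ.j m) →+ Z (Φ.j l)) :=
  {a | ∃ i, ∀ x : Z (Φ.j m), (x : V) + (a x : V) ∈ Z i}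

theorem T_unique (H : Hyp Z z n) {l m : Fin n} (hlm : l ≠ m) {a b : Z (Φ.j m) →+ Z (Φ.j l)}
    (ha : a ∈ Φ.T l m) (hb : b ∈ Φ.T l m) {x : Z (Φ.j m)} (hx : x ≠ 0) (h : a x = b x) :
    a = b := by
  obtain ⟨i, hi⟩ := ha
  obtain ⟨i', hi'⟩ := hb
  have hne : (x : V) + (a x : V) ≠ 0 := fun e => Φ.not_mem_W m hx (by
    rw [eq_neg_of_add_eq_zero_left e]
    exact neg_mem (Φ.le_W hlm (a x).2))
  obtain rfl : i = i' := (H.part _ hne).unique (hi x) (h ▸ hi' x)
  ext y
  by_contra hy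
  have hd : (a y : V) - (b y : V) ∈ Z i := by
    have h5 := sub_mem (hi y) (hi' y)
    rwa [add_sub_add_left_eq_sub] at h5
  have hd0 : (a y : V) - (b y : V) ≠ 0 := sub_ne_zero.2 hy
  obtain rfl : i = Φ.j l := (H.part _ hd0).unique hd (sub_mem (a y).2 (b y).2)
  have h6 : (x : V) ∈ Z (Φ.j l) := by
    have h5 := sub_mem (hi x) (a x).2
    rwa [add_sub_cancel_right] at h5
  exact Φ.not_mem_W m hx (Φ.le_W hlm h6)

theorem exists_T (H : Hyp Z z n) {l m : Fin n} (hlm : l ≠ m) {x : Z (Φ.j m)} (hx : x ≠ 0)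
    (y : Z (Φ.j l)) : ∃ a ∈ Φ.T l m, a x = y ∧ ∃ f : V ≃+ V, (∀ w ∈ Φ.W m, f w = w) ∧
      (∀ v : Z (Φ.j m), f v = (v : V) + (a v : V)) ∧ ∀ i, ∃ i', ∀ v, v ∈ Z i → f v ∈ Z i' := by
  obtain ⟨f, hfW, hfx, hfc, hperm⟩ := H.tv (Φ.W m) (Φ.j l) (Φ.j m) (Φ.card_W H m)
    (fun i v hv hv0 hvi => H.closed _ i v hv hv0 hvi) (Φ.le_W hlm) (Φ.not_le_W H m) x x.2
    (fun e => hx (Subtype.ext e)) y y.2
  let a : Z (Φ.j m) →+ Z (Φ.j l) :=
    ((f.toAddMonoidHom - AddMonoidHom.id V).comp (Z (Φ.j m)).subtype).codRestrict _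
      fun v => hfc v
  have hav : ∀ v : Z (Φ.j m), f v = (v : V) + (a v : V) := fun v => by
    show f v = (v : V) + (f v - v)
    rw [add_sub_cancel]
  obtain ⟨i, hi⟩ := hperm (Φ.j m)
  refine ⟨a, ⟨i, fun v => ?_⟩, Subtype.ext ?_, f, hfW, hav, fun k => ?_⟩
  · rw [← hav]; exact (hi v).1 v.2
  · show f x - (x : V) = y
    rw [hfx, add_sub_cancel_left]
  · obtain ⟨k', hk'⟩ := hperm k
    exact ⟨k', fun v => (hk' v).1⟩

/-- Every graph comes from a transvection. -/
theorem exists_transvection (H : Hyp Z z n) {l m : Fin n} (hlm : l ≠ m)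
    {a : Z (Φ.j m) →+ Z (Φ.j l)} (ha : a ∈ Φ.T l m) : ∃ f : V ≃+ V, (∀ w ∈ Φ.W m, f w = w) ∧
      (∀ v : Z (Φ.j m), f v = (v : V) + (a v : V)) ∧ ∀ i, ∃ i', ∀ v, v ∈ Z i → f v ∈ Z i' := by
  obtain ⟨x, hx⟩ := Φ.exists_ne_zero H m
  obtain ⟨b, hb, hbx, hf⟩ := Φ.exists_T H hlm hx (a x)
  obtain rfl := Φ.T_unique H hlm ha hb hx hbx.symm
  exact hf

theorem zero_mem_T (l m : Fin n) : (0 : Z (Φ.j m) →+ Z (Φ.j l)) ∈ Φ.T l m :=
  ⟨Φ.j m, fun x => by simp⟩

theorem add_mem_T (H : Hyp Z z n) {l m : Fin n} (hlm : l ≠ m) {a b : Z (Φ.j m) →+ Z (Φ.j l)}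
    (ha : a ∈ Φ.T l m) (hb : b ∈ Φ.T l m) : a + b ∈ Φ.T l m := by
  obtain ⟨f, hfW, hfm, hperm⟩ := Φ.exists_transvection H hlm ha
  obtain ⟨i, hi⟩ := hb
  obtain ⟨i', hi'⟩ := hperm i
  refine ⟨i', fun x => ?_⟩
  have h5 := hi' _ (hi x)
  rw [map_add, hfm, hfW _ (Φ.le_W hlm (b x).2), add_assoc] at h5
  rwa [AddMonoidHom.add_apply, AddSubgroup.coe_add]

/-- the graphs as a subgroup -/
def TG (H : Hyp Z z n) {l m : Fin n} (hlm : l ≠ m) :
    AddSubgroup (Z (Φ.j m) →+ Z (Φ.j l)) where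
  carrier := Φ.T l m
  zero_mem' := Φ.zero_mem_T l m
  add_mem' := Φ.add_mem_T H hlm
  neg_mem' := fun {a} ha => by
    haveI : Finite (Z (Φ.j m) →+ Z (Φ.j l)) := Finite.of_injective _ DFunLike.coe_injective
    let M : AddSubmonoid (Z (Φ.j m) →+ Z (Φ.j l)) :=
      { carrier := Φ.T l m, zero_mem' := Φ.zero_mem_T l m, add_mem' := Φ.add_mem_T H hlm }
    have h : (addOrderOf a - 1) • a = -a := by
      refine eq_neg_of_add_eq_zero_left ?_
      rw [← succ_nsmul, Nat.sub_add_cancel (addOrderOf_pos a), addOrderOf_nsmul_eq_zero]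
    exact h ▸ M.nsmul_mem (show a ∈ M from ha) _

/-- Graphs compose. -/
theorem comp_mem_T (H : Hyp Z z n) {l m p : Fin n} (hlm : l ≠ m) (hmp : m ≠ p) (hlp : l ≠ p)
    {a : Z (Φ.j m) →+ Z (Φ.j l)} {b : Z (Φ.j p) →+ Z (Φ.j m)} (ha : a ∈ Φ.T l m)
    (hb : b ∈ Φ.T m p) : a.comp b ∈ Φ.T l p := by
  obtain ⟨f, hfW, hfm, hperm⟩ := Φ.exists_transvection H hlm ha
  obtain ⟨g, hgW, hgm, hgperm⟩ :=
    Φ.exists_transvection H hmp (neg_mem (show b ∈ Φ.TG H hmp from hb))
  obtain ⟨i, hi⟩ := hb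
  obtain ⟨i', hi'⟩ := hperm i
  obtain ⟨i'', hi''⟩ := hgperm i'
  refine ⟨i'', fun x => ?_⟩
  have h5 := hi'' _ (hi' _ (hi x))
  rw [map_add, hfm, hfW _ (Φ.le_W hmp.symm x.2), map_add, map_add, hgm,
    hgW _ (Φ.le_W hmp (b x).2), hgW _ (Φ.le_W hlp (a (b x)).2)] at h5
  simpa [add_assoc] using h5

theorem bijective_T (H : Hyp Z z n) {l m : Fin n} (hlm : l ≠ m) {a : Z (Φ.j m) →+ Z (Φ.j l)}
    (ha : a ∈ Φ.T l m) (h0 : a ≠ 0) : Function.Bijective a :=
  (Nat.bijective_iff_injective_and_card _).2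
    ⟨(injective_iff_map_eq_zero a).2 fun x hx => by
      by_contra hx0
      exact h0 (Φ.T_unique H hlm ha (Φ.zero_mem_T l m) hx0 (by simpa using hx)),
      by rw [H.card_Z, H.card_Z]⟩

/-- The inverse of a graph is a graph. -/
theorem inv_mem_T {l m : Fin n} {a : Z (Φ.j m) →+ Z (Φ.j l)} (ha : a ∈ Φ.T l m)
    {b : Z (Φ.j l) →+ Z (Φ.j m)} (hab : ∀ y, a (b y) = y) : b ∈ Φ.T m l := by
  obtain ⟨i, hi⟩ := ha
  refine ⟨i, fun y => ?_⟩
  have h := hi (b y)
  rwa [hab, add_comm] at h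

end Frame

/-- The field and the coordinates. -/
theorem coords (H : Hyp Z z n) :
    ∃ (K : Type) (_ : Field K) (_ : Fintype K) (ψ : (Fin n → K) ≃+ V),
      Fintype.card K = z ∧
        ∀ i, ∃ w : Fin n → K, w ≠ 0 ∧ ∀ v, v ∈ Z i ↔ ∃ a : K, v = ψ (a • w) := by
  classical
  obtain ⟨Φ⟩ := nonempty_frame H
  have h2 := H.two_le
  obtain ⟨o, u, huo⟩ : ∃ o u : Fin n, u ≠ o :=
    ⟨⟨0, by omega⟩, ⟨1, by omega⟩, by simp⟩
  obtain ⟨x0, hx0⟩ := Φ.exists_ne_zero H o
  haveI : Nontrivial (Z (Φ.j o)) := ⟨x0, 0, hx0⟩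
  haveI : Finite (AddMonoid.End (Z (Φ.j o))) := Finite.of_injective _ DFunLike.coe_injective
  -- fixed isomorphisms with the members of the frame
  have hP : ∀ l, ∃ P : Z (Φ.j o) ≃+ Z (Φ.j l),
      (l ≠ o → P.toAddMonoidHom ∈ Φ.T l o) ∧ ∀ h : l = o, ∀ x, (P x : V) = (x : V) := by
    intro l
    by_cases h : l = o
    · subst h
      exact ⟨AddEquiv.refl _, fun h => absurd rfl h, fun _ _ => rfl⟩
    · obtain ⟨y, hy⟩ := Φ.exists_ne_zero H l
      obtain ⟨a, ha, hax, -⟩ := Φ.exists_T H h hx0 y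
      have h0 : a ≠ 0 := fun e => hy (by rw [← hax, e]; rfl)
      exact ⟨AddEquiv.ofBijective a (Φ.bijective_T H h ha h0), fun _ => ha,
        fun h' => absurd h' h⟩
  choose P hPT hPo using hP
  -- the spread set
  let toT : AddMonoid.End (Z (Φ.j o)) →+ (Z (Φ.j o) →+ Z (Φ.j u)) :=
    { toFun := fun c => (P u).toAddMonoidHom.comp c
      map_zero' := AddMonoidHom.ext fun x => map_zero (P u)
      map_add' := fun c d => AddMonoidHom.ext fun x => map_add (P u) (c x) (d x) }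
  let S : AddSubgroup (AddMonoid.End (Z (Φ.j o))) := (Φ.TG H huo).comap toT
  have memS : ∀ c, c ∈ S ↔ (P u).toAddMonoidHom.comp c ∈ Φ.T u o := fun _ => Iff.rfl
  have h1 : (1 : AddMonoid.End (Z (Φ.j o))) ∈ S := hPT u huo
  have heval : Function.Bijective (fun c : S => (c : AddMonoid.End (Z (Φ.j o))) x0) := by
    refine ⟨fun c d h => Subtype.ext ?_, fun y => ?_⟩
    · have h5 := Φ.T_unique H huo c.2 d.2 hx0 (congrArg (P u) h)
      exact AddMonoidHom.ext fun x => (P u).injective (DFunLike.congr_fun h5 x)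
    · obtain ⟨a, ha, hax, -⟩ := Φ.exists_T H huo hx0 (P u y)
      refine ⟨⟨(P u).symm.toAddMonoidHom.comp a, ?_⟩, ?_⟩
      · refine (memS _).2 ?_
        convert ha using 1
        exact AddMonoidHom.ext fun x => (P u).apply_symm_apply (a x)
      · show (P u).symm (a x0) = y
        rw [hax, AddEquiv.symm_apply_apply]
  have hbij : ∀ c ∈ S, c ≠ 0 → Function.Bijective c := by
    intro c hc h0
    have h5 := Φ.bijective_T H huo hc fun e => h0 (AddMonoidHom.ext fun x =>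
      (P u).injective ((DFunLike.congr_fun e x).trans (map_zero (P u)).symm))
    exact Function.Bijective.of_comp_iff' (P u).bijective c |>.1 h5
  -- inverses
  have hinvT : ∀ a ∈ S, ∀ a' : AddMonoid.End (Z (Φ.j o)), a * a' = 1 →
      (a'.comp (P u).symm.toAddMonoidHom : Z (Φ.j u) →+ Z (Φ.j o)) ∈ Φ.T o u := by
    intro a ha a' h
    refine Φ.inv_mem_T ha fun y => ?_
    show P u (a (a' ((P u).symm y))) = y
    rw [show a (a' ((P u).symm y)) = (P u).symm y from DFunLike.congr_fun h _,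
      AddEquiv.apply_symm_apply]
  obtain ⟨hcomm, hmul⟩ := OW.spreadSet_field S h1 (Nat.card_congr (Equiv.ofBijective _ heval))
    hbij fun a ha b hb a' b' h1' _ h3' _ => by
      set d : Z (Φ.j u) →+ Z (Φ.j o) := (a' + b').comp (P u).symm.toAddMonoidHom with hd
      have hd' : d ∈ Φ.T o u := Φ.add_mem_T H huo.symm (hinvT a ha a' h1') (hinvT b hb b' h3')
      by_cases h0 : a' + b' = 0
      · exact Or.inl h0
      right
      have hd0 : d ≠ 0 := fun e => h0 (AddMonoidHom.ext fun x => by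
        have e1 : d (P u x) = (a' + b') x := by
          show (a' + b') ((P u).symm (P u x)) = _
          rw [AddEquiv.symm_apply_apply]
        exact e1.symm.trans (DFunLike.congr_fun e (P u x)))
      let e := AddEquiv.ofBijective d (Φ.bijective_T H huo.symm hd' hd0)
      refine ⟨(P u).symm.toAddMonoidHom.comp e.symm.toAddMonoidHom, ?_,
        AddMonoidHom.ext fun x => ?_, AddMonoidHom.ext fun x => ?_⟩
      · refine (memS _).2 (Φ.inv_mem_T hd' fun y => ?_)
        show d (P u ((P u).symm (e.symm y))) = y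
        rw [AddEquiv.apply_symm_apply]
        exact e.apply_symm_apply y
      · show (P u).symm (e.symm ((a' + b') x)) = x
        have h5 : e (P u x) = (a' + b') x := by
          show (a' + b') ((P u).symm (P u x)) = _
          rw [AddEquiv.symm_apply_apply]
        rw [← h5, AddEquiv.symm_apply_apply, AddEquiv.symm_apply_apply]
      · show (a' + b') ((P u).symm (e.symm x)) = x
        exact e.apply_symm_apply x
  -- the field
  let R : Subring (AddMonoid.End (Z (Φ.j o))) :=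
    { carrier := S
      one_mem' := h1
      mul_mem' := fun {a b} ha hb => hmul a ha b hb
      zero_mem' := S.zero_mem
      add_mem' := fun {a b} => S.add_mem
      neg_mem' := fun {a} => S.neg_mem }
  have hfield : IsField R := by
    refine ⟨⟨0, 1, fun e => hx0 ?_⟩, fun a b => Subtype.ext (hcomm _ a.2 _ b.2), fun {a} ha => ?_⟩
    · exact (DFunLike.congr_fun (congrArg Subtype.val e) x0).symm
    · have hinj : Function.Injective fun b : R => a * b := fun b c h => Subtype.ext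
        (AddMonoidHom.ext fun x => (hbij _ a.2 fun e => ha (Subtype.ext e)).1
          (DFunLike.congr_fun (congrArg Subtype.val h) x))
      exact (Finite.injective_iff_surjective.1 hinj) 1
  obtain ⟨K, instK, finK, ⟨e⟩⟩ := OW.Coords.exists_small_field hfield
  haveI : Fintype K := Fintype.ofFinite K
  let κ : K →+* AddMonoid.End (Z (Φ.j o)) := R.subtype.comp e.toRingHom
  have hκ : ∀ c, κ c ∈ S := fun c => (e c).2
  let ev : K ≃+ Z (Φ.j o) := AddEquiv.ofBijective
    ({ toFun := fun c => κ c x0, map_zero' := by rw [map_zero]; rfl,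
       map_add' := fun a b => by rw [map_add]; rfl } : K →+ Z (Φ.j o))
    (heval.comp e.bijective)
  have hev : ∀ c d, κ c (ev d) = ev (c * d) := fun c d => by
    show κ c (κ d x0) = κ (c * d) x0
    rw [map_mul]
    rfl
  let ψ : (Fin n → K) ≃+ V := (AddEquiv.piCongrRight fun l => ev.trans (P l)).trans Φ.E
  have hψ : ∀ w, ψ w = ∑ l, (P l (ev (w l)) : V) := fun w => Φ.E_apply _
  have hcardK : Fintype.card K = z := by
    rw [← Nat.card_eq_fintype_card, Nat.card_congr ev.toEquiv, H.card_Z]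
  -- the maps between two members coming from the field
  have hfrom : ∀ l, l ≠ o → ∀ c : K,
      ((P l).toAddMonoidHom.comp (κ c) : Z (Φ.j o) →+ Z (Φ.j l)) ∈ Φ.T l o := by
    intro l hl c
    by_cases hlu : l = u
    · subst hlu; exact hκ c
    have hPu : (P u).symm.toAddMonoidHom ∈ Φ.T o u :=
      Φ.inv_mem_T (hPT u huo) fun y => (P u).apply_symm_apply y
    have h5 := Φ.comp_mem_T H hlu huo hl (Φ.comp_mem_T H hl huo.symm hlu (hPT l hl) hPu) (hκ c)
    convert h5 using 1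
    exact AddMonoidHom.ext fun x =>
      congrArg (P l) ((P u).symm_apply_apply (κ c x)).symm
  have hTlm : ∀ l m, l ≠ m → ∀ c : K,
      ((P l).toAddMonoidHom.comp ((κ c).comp (P m).symm.toAddMonoidHom) :
        Z (Φ.j m) →+ Z (Φ.j l)) ∈ Φ.T l m := by
    intro l m hlm c
    have hinvm : ∀ h : m ≠ o, (P m).symm.toAddMonoidHom ∈ Φ.T o m := fun h =>
      Φ.inv_mem_T (hPT m h) fun y => (P m).apply_symm_apply y
    by_cases hm : m = o
    · subst hm
      convert hfrom l hlm c using 1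
      refine AddMonoidHom.ext fun x => ?_
      show P l (κ c ((P m).symm x)) = P l (κ c x)
      rw [show (P m).symm x = x from
        (P m).symm_apply_eq.2 (Subtype.ext (hPo m rfl x).symm)]
    by_cases hl : l = o
    · subst hl
      rcases eq_or_ne c 0 with rfl | hc
      · convert Φ.zero_mem_T l m using 1
        refine AddMonoidHom.ext fun x => ?_
        show P l (κ 0 ((P m).symm x)) = 0
        rw [map_zero]
        exact map_zero (P l)
      · refine Φ.inv_mem_T (hfrom m hm c⁻¹) fun y => ?_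
        show P m (κ c⁻¹ (P l (κ c ((P m).symm y)))) = y
        rw [show P l (κ c ((P m).symm y)) = κ c ((P m).symm y) from
          Subtype.ext (hPo l rfl _)]
        show P m ((κ c⁻¹ * κ c) ((P m).symm y)) = y
        rw [← map_mul, inv_mul_cancel₀ hc, map_one]
        exact (P m).apply_symm_apply y
    · have h5 := Φ.comp_mem_T H hl (Ne.symm hm) hlm (hfrom l hl c) (hinvm hm)
      exact h5
  -- the lines
  refine ⟨K, instK, inferInstance, ψ, hcardK, fun i => ?_⟩
  obtain ⟨v, hv, hv0⟩ : ∃ v ∈ Z i, v ≠ 0 := by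
    haveI : Nontrivial (Z i) :=
      Finite.one_lt_card_iff_nontrivial.1 (by rw [H.card_Z]; exact H.one_lt)
    obtain ⟨v, hv⟩ := exists_ne (0 : Z i)
    exact ⟨v, v.2, fun e => hv (Subtype.ext e)⟩
  obtain ⟨w, rfl⟩ := ψ.surjective v
  have hw0 : w ≠ 0 := fun e => hv0 (by rw [e, map_zero])
  obtain ⟨m, hm⟩ : ∃ m, w m ≠ 0 := Function.ne_iff.1 hw0
  let t : ∀ l, Z (Φ.j m) →+ Z (Φ.j l) := fun l =>
    (P l).toAddMonoidHom.comp ((κ (w l / w m)).comp (P m).symm.toAddMonoidHom)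
  have hsum : ∀ s : Finset (Fin n), m ∉ s →
      ∃ i', ∀ x : Z (Φ.j m), (x : V) + ∑ l ∈ s, (t l x : V) ∈ Z i' := by
    intro s
    induction s using Finset.induction with
    | empty => exact fun _ => ⟨Φ.j m, fun x => by simp⟩
    | insert l s hls ih =>
      intro hms
      rw [Finset.mem_insert, not_or] at hms
      obtain ⟨i', hi'⟩ := ih hms.2
      obtain ⟨f, hfW, hfm, hperm⟩ :=
        Φ.exists_transvection H (Ne.symm hms.1) (hTlm l m (Ne.symm hms.1) (w l / w m))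
      obtain ⟨i'', hi''⟩ := hperm i'
      refine ⟨i'', fun x => ?_⟩
      have h5 := hi'' _ (hi' x)
      rw [map_add, hfm, hfW _ (sum_mem fun k hk =>
        Φ.le_W (fun e : k = m => hms.2 (e ▸ hk)) (t k x).2), add_assoc] at h5
      rw [Finset.sum_insert hls]
      exact h5
  obtain ⟨i', hi'⟩ := hsum (Finset.univ.erase m) (Finset.notMem_erase _ _)
  have hline : ∀ a : K, ψ (a • w) ∈ Z i' := by
    intro a
    have h5 := hi' (P m (ev (a * w m)))
    have h6 : ∀ l, t l (P m (ev (a * w m))) = P l (ev (a * w l)) := fun l => by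
      show P l (κ (w l / w m) ((P m).symm (P m (ev (a * w m))))) = _
      rw [AddEquiv.symm_apply_apply, hev]
      congr 2
      field_simp
    simp only [h6] at h5
    have h7 := Finset.add_sum_erase Finset.univ (fun l => (P l (ev (a * w l)) : V))
      (Finset.mem_univ m)
    rw [hψ]
    simp only [Pi.smul_apply, smul_eq_mul]
    rwa [← h7]
  obtain rfl : i = i' := (H.part _ hv0).unique hv (by simpa using hline 1)
  refine ⟨w, hw0, fun x => ⟨fun hx => ?_, fun ⟨a, ha⟩ => ha ▸ hline a⟩⟩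
  have hinj : Function.Injective fun a : K => (⟨ψ (a • w), hline a⟩ : Z i) := fun a b h => by
    have h5 := congrFun (ψ.injective (congrArg Subtype.val h)) m
    exact mul_right_cancel₀ hm (by simpa using h5)
  obtain ⟨a, ha⟩ := ((Nat.bijective_iff_injective_and_card _).2
    ⟨hinj, by rw [Nat.card_eq_fintype_card, hcardK, H.card_Z]⟩).2 ⟨x, hx⟩
  exact ⟨a, (congrArg Subtype.val ha).symm⟩

end CfsgLib.Ito.Spread

namespace CfsgLib.Ito

universe u v

/-- A partition closed under sums with all transvections consists of the lines of a vector space. -/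
theorem spread_coords {V : Type u} [AddCommGroup V] [Finite V] {ι : Type v} (Z : ι → AddSubgroup V)
    {z n : ℕ} (hz : 1 < z) (hn : 2 ≤ n) (hV : Nat.card V = z ^ n) (hZ : ∀ i, Nat.card (Z i) = z)
    (hpart : ∀ x : V, x ≠ 0 → ∃! i, x ∈ Z i)
    (hclosed : ∀ (s : Set ι) (j : ι) (x : V), x ∈ (⨆ i ∈ s, Z i) → x ≠ 0 → x ∈ Z j →
      Z j ≤ ⨆ i ∈ s, Z i)
    (htv : ∀ (W : AddSubgroup V) (c d : ι), Nat.card W = z ^ (n - 1) →
      (∀ j (x : V), x ∈ W → x ≠ 0 → x ∈ Z j → Z j ≤ W) → Z c ≤ W → ¬ Z d ≤ W →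
      ∀ x ∈ Z d, x ≠ 0 → ∀ y ∈ Z c, ∃ f : V ≃+ V, (∀ w ∈ W, f w = w) ∧ f x = x + y ∧
        (∀ v, f v - v ∈ Z c) ∧ ∀ i, ∃ j, ∀ v, v ∈ Z i ↔ f v ∈ Z j) :
    ∃ (K : Type) (_ : Field K) (_ : Fintype K) (ψ : (Fin n → K) ≃+ V),
      Fintype.card K = z ∧
        ∀ i, ∃ w : Fin n → K, w ≠ 0 ∧ ∀ v, v ∈ Z i ↔ ∃ a : K, v = ψ (a • w) :=
  Spread.coords ⟨hz, hn, hV, hZ, hpart, hclosed, htv⟩

end CfsgLib.Ito
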