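import Cfsg.Agent.Lib.ItoTwo.ModelShift
import Cfsg.Agent.Lib.ItoTwo.Spread

/-!
# The design of a translation group is a projective space

With coordinates for the spread of centres a point off the axis is an affine point and a point of
the axis is the point at infinity of its centre group; blocks and hyperplanes correspond.
-/

set_option autoImplicit false
set_option linter.style.haveILetI false
set_option linter.unusedSectionVars false

open scoped Pointwise

namespace CfsgLib.Ito

universe u v

namespace ModelCoord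

variable {K : Type} [Field K] {n : ℕ}

/-- the translate through `(1, a)` of a vector, projected to the hyperplane at infinity -/
def proj (a : Fin n → K) : (Fin (n + 1) → K) →ₗ[K] (Fin n → K) where
  toFun v i := v i.succ - v 0 * a i
  map_add' v v' := by ext i; simp [add_mul]; ring
  map_smul' c v := by ext i; simp [mul_sub, mul_assoc]

theorem proj_cons (a : Fin n → K) (t : K) (u : Fin n → K) :
    proj a (Fin.cons t u) = u - t • a := by
  ext i
  simp [proj]

/-- the hyperplane through `(1, a)` with direction `S` -/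
def hyper (a : Fin n → K) (S : Submodule K (Fin n → K)) : Submodule K (Fin (n + 1) → K) :=
  S.comap (proj a)

theorem cons_mem_hyper {a : Fin n → K} {S : Submodule K (Fin n → K)} {t : K} {u : Fin n → K} :
    Fin.cons t u ∈ hyper a S ↔ u - t • a ∈ S := by
  rw [hyper, Submodule.mem_comap, proj_cons]

/-- a hyperplane of that form is the product of a line and its direction -/
noncomputable def hyperEquiv (a : Fin n → K) (S : Submodule K (Fin n → K)) :
    hyper a S ≃ₗ[K] K × S where
  toFun v := ⟨(v : Fin (n + 1) → K) 0, ⟨proj a v, v.2⟩⟩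
  map_add' v v' := by ext <;> simp
  map_smul' c v := by ext <;> simp
  invFun x := ⟨Fin.cons x.1 ((x.2 : Fin n → K) + x.1 • a), by
    rw [cons_mem_hyper, add_sub_cancel_right]; exact x.2.2⟩
  left_inv v := by
    apply Subtype.ext
    ext i
    refine Fin.cases ?_ (fun j => ?_) i
    · simp
    · simp [proj]
  right_inv x := by
    refine Prod.ext (by simp) (Subtype.ext ?_)
    simp [proj_cons]

theorem finrank_hyper (a : Fin n → K) (S : Submodule K (Fin n → K)) :
    Module.finrank K (hyper a S) = Module.finrank K S + 1 := by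
  rw [LinearEquiv.finrank_eq (hyperEquiv a S), Module.finrank_prod, Module.finrank_self, add_comm]

/-- the hyperplane at infinity -/
def infHyper : Submodule K (Fin (n + 1) → K) :=
  LinearMap.ker (LinearMap.proj (0 : Fin (n + 1)))

theorem mem_infHyper {v : Fin (n + 1) → K} : v ∈ (infHyper : Submodule K (Fin (n + 1) → K)) ↔
    v 0 = 0 := Iff.rfl

theorem finrank_infHyper :
    Module.finrank K (infHyper : Submodule K (Fin (n + 1) → K)) = n := by
  have hs : Function.Surjective (LinearMap.proj (R := K) (φ := fun _ : Fin (n + 1) => K) 0) :=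
    fun x => ⟨fun _ => x, rfl⟩
  have h := LinearMap.finrank_range_add_finrank_ker
    (LinearMap.proj (R := K) (φ := fun _ : Fin (n + 1) => K) 0)
  rw [LinearMap.range_eq_top.2 hs, finrank_top, Module.finrank_self, Module.finrank_fin_fun] at h
  show Module.finrank K (LinearMap.ker (LinearMap.proj (R := K) (φ := fun _ : Fin (n + 1) => K) 0))
    = n
  omega

/-- a hyperplane other than the one at infinity meets the affine part -/
theorem exists_hyper (W : Submodule K (Fin (n + 1) → K)) (hW : Module.finrank K W = n)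
    (hne : W ≠ infHyper) :
    ∃ (a : Fin n → K) (S : Submodule K (Fin n → K)),
      Module.finrank K S + 1 = n ∧ W = hyper a S := by
  obtain ⟨v, hvW, hv0⟩ : ∃ v ∈ W, v 0 ≠ 0 := by
    by_contra h
    push Not at h
    exact hne (Submodule.eq_of_le_of_finrank_eq (fun v hv => mem_infHyper.2 (h v hv))
      (hW.trans finrank_infHyper.symm))
  set a : Fin n → K := (v 0)⁻¹ • Fin.tail v with ha
  have hva : (Fin.cons 1 a : Fin (n + 1) → K) ∈ W := by
    have h : (Fin.cons 1 a : Fin (n + 1) → K) = (v 0)⁻¹ • v := by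
      ext i
      refine Fin.cases ?_ (fun j => ?_) i
      · simp [inv_mul_cancel₀ hv0]
      · simp [ha, Fin.tail]
    rw [h]
    exact W.smul_mem _ hvW
  let inc : (Fin n → K) →ₗ[K] (Fin (n + 1) → K) :=
    { toFun := fun u => Fin.cons 0 u
      map_add' := fun u u' => by ext i; refine Fin.cases ?_ (fun j => ?_) i <;> simp
      map_smul' := fun c u => by ext i; refine Fin.cases ?_ (fun j => ?_) i <;> simp }
  refine ⟨a, W.comap inc, ?_, ?_⟩
  · have h : W = hyper a (W.comap inc) := by
      ext x
      have hx : x = inc (proj a x) + x 0 • (Fin.cons 1 a : Fin (n + 1) → K) := by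
        ext i
        refine Fin.cases ?_ (fun j => ?_) i <;> simp [inc, proj]
      rw [hyper, Submodule.mem_comap, Submodule.mem_comap]
      conv_lhs => rw [hx]
      exact W.add_mem_iff_left (W.smul_mem _ hva)
    rw [h, finrank_hyper] at hW
    exact hW
  · ext x
    have hx : x = inc (proj a x) + x 0 • (Fin.cons 1 a : Fin (n + 1) → K) := by
      ext i
      refine Fin.cases ?_ (fun j => ?_) i <;> simp [inc, proj]
    rw [hyper, Submodule.mem_comap, Submodule.mem_comap]
    conv_lhs => rw [hx]
    exact W.add_mem_iff_left (W.smul_mem _ hva)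

end ModelCoord

variable {G : Type u} {Ω : Type v} [Group G] [MulAction G Ω] {D : Des G Ω}

open ModelCoord

attribute [local instance] Transl.addCommGroup

/-- the design of a translation group is that of points and hyperplanes of a projective space -/
theorem Transl.exists_model [Finite G] [Finite Ω] [FaithfulSMul G Ω] {D : Des G Ω}
    (T : Transl D) :
    ∃ (K : Type) (_ : Field K) (_ : Fintype K),
      Fintype.card K = T.z ∧ Nonempty (ProjModel D T.n K) := by
  classical
  haveI := T.finite_V
  obtain ⟨K, _, _, ψ, hK, hw⟩ := spread_coords (fun i : D.B => T.comp i.1) T.one_lt_z T.two_le_n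
    T.card_V (fun i => T.card_comp i.2) (fun x hx => T.existsUnique_comp hx)
    (fun s j x => T.comp_le_iSup s j x)
    (fun W c d => T.exists_transvection W c d)
  refine ⟨K, inferInstance, inferInstance, hK, ?_⟩
  choose w hw0 hw using hw
  obtain ⟨o, ho⟩ := D.exists_notMem_axis
  have hoff : ∀ P, P ∉ D.B → ∃ x : T.V, T.act x o = P := fun P hP => T.exists_act_eq ho hP
  choose co hco using hoff
  let vec : Ω → (Fin (T.n + 1) → K) := fun P =>
    if h : P ∈ D.B then Fin.cons 0 (w ⟨P, h⟩) else Fin.cons 1 (ψ.symm (co P h))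
  have vecB : ∀ (P : Ω) (h : P ∈ D.B), vec P = Fin.cons 0 (w ⟨P, h⟩) := fun P h => dif_pos h
  have vecO : ∀ (P : Ω) (h : P ∉ D.B), vec P = Fin.cons 1 (ψ.symm (co P h)) := fun P h => dif_neg h
  have hne : ∀ P, vec P ≠ 0 := by
    intro P e
    by_cases h : P ∈ D.B
    · rw [vecB P h] at e
      exact hw0 ⟨P, h⟩ (funext fun i => by simpa using congrFun e i.succ)
    · rw [vecO P h] at e
      simpa using congrFun e 0
  let f : Ω → Projectivization K (Fin (T.n + 1) → K) := fun P => Projectivization.mk K (vec P) (hne P)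
  have hinj : Function.Injective f := by
    intro P Q e
    obtain ⟨a, ha⟩ := (Projectivization.mk_eq_mk_iff' K _ _ (hne P) (hne Q)).1 e
    by_cases hP : P ∈ D.B <;> by_cases hQ : Q ∈ D.B
    · rw [vecB P hP, vecB Q hQ] at ha
      have hwa : a • w ⟨Q, hQ⟩ = w ⟨P, hP⟩ := funext fun i => by simpa using congrFun ha i.succ
      have h1 : ψ (w ⟨P, hP⟩) ∈ T.comp P := (hw ⟨P, hP⟩ _).2 ⟨1, by rw [one_smul]⟩
      have h2 : ψ (w ⟨P, hP⟩) ∈ T.comp Q := (hw ⟨Q, hQ⟩ _).2 ⟨a, by rw [hwa]⟩
      exact T.eq_of_mem_comp ((map_ne_zero_iff ψ ψ.injective).2 (hw0 _)) hP hQ h1 h2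
    · rw [vecB P hP, vecO Q hQ] at ha
      have h0 : a = 0 := by simpa using congrFun ha 0
      exact absurd (funext fun i => by simpa [h0] using (congrFun ha i.succ).symm) (hw0 ⟨P, hP⟩)
    · rw [vecO P hP, vecB Q hQ] at ha
      simpa using congrFun ha 0
    · rw [vecO P hP, vecO Q hQ] at ha
      have h0 : a = 1 := by simpa using congrFun ha 0
      have h1 : ψ.symm (co Q hQ) = ψ.symm (co P hP) :=
        funext fun i => by simpa [h0] using congrFun ha i.succ
      rw [← hco P hP, ← hco Q hQ, ψ.symm.injective h1]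
  have hsurj : Function.Surjective f := by
    intro q
    induction q using Projectivization.ind with
    | h v hv =>
      by_cases h0 : v 0 = 0
      · have ht : ψ (Fin.tail v) ≠ 0 := (map_ne_zero_iff ψ ψ.injective).2 fun e => hv (funext fun i =>
          Fin.cases (by simpa using h0) (fun j => congrFun e j) i)
        obtain ⟨i, hi, -⟩ := T.existsUnique_comp ht
        obtain ⟨a, ha⟩ := (hw i _).1 hi
        have ha0 : a ≠ 0 := fun e => ht (by rw [ha, e, zero_smul, map_zero])
        refine ⟨i.1, ((Projectivization.mk_eq_mk_iff' K _ _ hv (hne _)).2 ⟨a, ?_⟩).symm⟩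
        rw [vecB i.1 i.2]
        funext j
        refine Fin.cases ?_ (fun j => ?_) j
        · simp [h0]
        · simpa [Fin.tail] using (congrFun (ψ.injective ha) j).symm
      · set m : T.V := ψ ((v 0)⁻¹ • Fin.tail v) with hm
        have hP : T.act m o ∉ D.B := T.act_notMem m ho
        refine ⟨T.act m o, ((Projectivization.mk_eq_mk_iff' K _ _ hv (hne _)).2 ⟨v 0, ?_⟩).symm⟩
        rw [vecO _ hP, T.act_inj ho (hco _ hP), hm, AddEquiv.symm_apply_apply]
        funext j
        refine Fin.cases ?_ (fun j => ?_) j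
        · simp
        · simp [Fin.tail, mul_inv_cancel_left₀ h0]
  let φ : Ω ≃ Projectivization K (Fin (T.n + 1) → K) := Equiv.ofBijective f ⟨hinj, hsurj⟩
  have hmem : ∀ P (W : Submodule K (Fin (T.n + 1) → K)), (φ P).submodule ≤ W ↔ vec P ∈ W := by
    intro P W
    show (f P).submodule ≤ W ↔ _
    rw [Projectivization.submodule_mk, Submodule.span_singleton_le_iff_mem]
  -- the blocks through `o` are the hyperplanes of the translation space
  have hsub : ∀ C₀ ∈ D.blocks, o ∈ C₀ → ∃ S : Submodule K (Fin T.n → K),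
      Module.finrank K S + 1 = T.n ∧ ∀ u, u ∈ S ↔ ψ u ∈ T.st C₀ := by
    intro C₀ hC hoC
    let S : Submodule K (Fin T.n → K) :=
      { carrier := {u | ψ u ∈ T.st C₀}
        add_mem' := fun {u u'} hu hu' => by
          show ψ (u + u') ∈ T.st C₀
          rw [map_add]
          exact (T.st C₀).add_mem hu hu'
        zero_mem' := by
          show ψ 0 ∈ T.st C₀
          rw [map_zero]
          exact (T.st C₀).zero_mem
        smul_mem' := fun a u hu => by
          show ψ (a • u) ∈ T.st C₀
          by_cases h0 : ψ u = 0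
          · rw [(map_eq_zero_iff ψ ψ.injective).1 h0, smul_zero, map_zero]
            exact (T.st C₀).zero_mem
          obtain ⟨i, hi, -⟩ := T.existsUnique_comp h0
          obtain ⟨b, hb⟩ := (hw i _).1 hi
          refine T.st_union hC (ne_B_of_off ho hoC) i.1 i.2 _ hu h0 hi ((hw i _).2 ⟨a * b, ?_⟩)
          rw [mul_smul, ← ψ.injective hb] }
    refine ⟨S, ?_, fun u => Iff.rfl⟩
    have h1 : Nat.card S = T.z ^ (T.n - 1) := by
      rw [← T.card_st hC (ne_B_of_off ho hoC)]
      exact Nat.card_congr (ψ.toEquiv.subtypeEquiv fun u => Iff.rfl)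
    rw [Module.natCard_eq_pow_finrank (K := K), Nat.card_eq_fintype_card, hK] at h1
    have := Nat.pow_right_injective T.one_lt_z h1
    have := T.two_le_n
    omega
  have hpts : ∀ C₀ ∈ D.blocks, o ∈ C₀ → ∀ S : Submodule K (Fin T.n → K),
      (∀ u, u ∈ S ↔ ψ u ∈ T.st C₀) → ∀ (m : T.V) (p : Ω),
      (p ∈ ((Additive.toMul m : T.M) : G) • C₀ ↔ vec p ∈ hyper (ψ.symm m) S) := by
    intro C₀ hC hoC S hS m p
    by_cases hp : p ∈ D.B
    · have e : p ∈ ((Additive.toMul m : T.M) : G) • C₀ ↔ p ∈ C₀ := by
        conv_lhs => rw [← T.fix_B _ (Additive.toMul m).2 p hp]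
        exact Set.smul_mem_smul_set_iff
      rw [e, vecB p hp, cons_mem_hyper, zero_smul, sub_zero, hS]
      have hwp : ψ (w ⟨p, hp⟩) ∈ T.comp p := (hw ⟨p, hp⟩ _).2 ⟨1, by rw [one_smul]⟩
      exact ⟨fun h => T.comp_le_st hC h hwp, fun h =>
        T.mem_of_mem_st ((map_ne_zero_iff ψ ψ.injective).2 (hw0 _)) hp hwp hC
          (ne_B_of_off ho hoC) h⟩
    · rw [vecO p hp, cons_mem_hyper, one_smul, hS, map_sub, AddEquiv.apply_symm_apply,
        AddEquiv.apply_symm_apply, Set.mem_smul_set_iff_inv_smul_mem]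
      have e : ((Additive.toMul m : T.M) : G)⁻¹ • p = T.act (co p hp - m) o := by
        conv_lhs => rw [← hco p hp]
        rw [sub_eq_neg_add, T.act_add]
        rfl
      rw [e, T.act_mem_iff hC ho hoC]
  refine ⟨⟨φ, fun C hC => ?_, fun W hW => ?_⟩⟩
  · by_cases hCB : C = D.B
    · refine ⟨infHyper, finrank_infHyper, fun p => ?_⟩
      rw [hmem, mem_infHyper, hCB]
      by_cases hp : p ∈ D.B
      · simp [vecB p hp, hp]
      · simp [vecO p hp, hp]
    · obtain ⟨P, hPC, hPB⟩ : ∃ P, P ∈ C ∧ P ∉ D.B := by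
        by_contra h
        push Not at h
        exact hCB (Set.eq_of_subset_of_ncard_le h (by rw [D.card_B, D.ncard_of_mem hC]) D.axis_finite)
      set g := ((Additive.toMul (co P hPB) : T.M) : G) with hg
      have hC₀ : g⁻¹ • C ∈ D.blocks := D.smul_blocks _ hC
      have hoC₀ : o ∈ g⁻¹ • C := by
        rw [Set.mem_smul_set_iff_inv_smul_mem, inv_inv]
        show T.act (co P hPB) o ∈ C
        rwa [hco]
      obtain ⟨S, hS1, hS2⟩ := hsub _ hC₀ hoC₀
      refine ⟨hyper (ψ.symm (co P hPB)) S, by rw [finrank_hyper, hS1], fun p => ?_⟩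
      rw [hmem, ← hpts _ hC₀ hoC₀ S hS2, ← hg, smul_inv_smul]
  · by_cases hinf : W = infHyper
    · refine ⟨D.B, D.axis_mem, fun p => ?_⟩
      rw [hmem, hinf, mem_infHyper]
      by_cases hp : p ∈ D.B
      · simp [vecB p hp, hp]
      · simp [vecO p hp, hp]
    · obtain ⟨a, S, hS1, rfl⟩ := exists_hyper W hW hinf
      let U : AddSubgroup T.V := S.toAddSubgroup.map ψ.toAddMonoidHom
      have hU : ∀ u, u ∈ S ↔ ψ u ∈ U := fun u =>
        ⟨fun h => ⟨u, h, rfl⟩, fun ⟨u', h, e⟩ => ψ.injective e ▸ h⟩
      have hcard : Nat.card U = T.z ^ (T.n - 1) := by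
        rw [← Nat.card_congr (ψ.toEquiv.subtypeEquiv hU), Module.natCard_eq_pow_finrank (K := K),
          Nat.card_eq_fintype_card, hK]
        congr 1
        omega
      obtain ⟨C₀, hC₀, hoC₀, hst⟩ := T.eq_st ho U hcard fun c hc x hx h0 hxc => by
        intro y hy
        obtain ⟨u, hu, rfl⟩ := hx
        obtain ⟨b, hb⟩ := (hw ⟨c, hc⟩ _).1 hxc
        obtain ⟨b', rfl⟩ := (hw ⟨c, hc⟩ _).1 hy
        have hb0 : b ≠ 0 := by
          rintro rfl
          exact h0 (hb.trans (by rw [zero_smul, map_zero]))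
        have hub : u = b • w ⟨c, hc⟩ := ψ.injective hb
        refine (hU _).1 (S.smul_mem b' ?_)
        have := S.smul_mem b⁻¹ (show b • w ⟨c, hc⟩ ∈ S from hub ▸ hu)
        rwa [inv_smul_smul₀ hb0] at this
      refine ⟨((Additive.toMul (ψ a) : T.M) : G) • C₀, D.smul_blocks _ hC₀, fun p => ?_⟩
      rw [hmem, hpts C₀ hC₀ hoC₀ S (fun u => hst.symm ▸ hU u) (ψ a) p,
        AddEquiv.symm_apply_apply]

end CfsgLib.Ito
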