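import Cfsg.Agent.Lib.ItoTwo.Defs
import Cfsg.Agent.Lib.Classical.SLGen
import Mathlib

/-!
# Ito's theorem, piece P7: the translations are transvections

A collineation fixing a hyperplane pointwise and every hyperplane through one of its points is
determined by the image of one further point, so the conjugates of the translation group act as
all transvections.
-/

set_option autoImplicit false

open scoped Pointwise

namespace CfsgLib.Ito

universe u v

namespace PSLAux

open Module Projectivization

variable {K : Type} [Field K] {n : ℕ}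

local notation "V" => (Fin (n + 1) → K)

/-- a hyperplane -/
def Hyp (W : Submodule K V) : Prop := finrank K W = n

/-- the point lies in the subspace -/
def On (p : Projectivization K V) (W : Submodule K V) : Prop := p.submodule ≤ W

theorem on_mk {v : V} (hv : v ≠ 0) {W : Submodule K V} : On (mk K v hv) W ↔ v ∈ W := by
  rw [On, submodule_mk, Submodule.span_singleton_le_iff_mem]

theorem hyp_ker {g : V →ₗ[K] K} (hg : g ≠ 0) : Hyp (LinearMap.ker g) := by
  have h1 := g.finrank_range_add_finrank_ker
  have hr : LinearMap.range g = ⊤ := g.surjective_of_ne_zero hg |> LinearMap.range_eq_top.2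
  rw [hr, finrank_top, finrank_self, finrank_fin_fun] at h1
  unfold Hyp
  omega

theorem exists_functional {W : Submodule K V} (hW : Hyp W) :
    ∃ f : V →ₗ[K] K, f ≠ 0 ∧ LinearMap.ker f = W := by
  have hlt : W ≠ ⊤ := fun h => by
    have := hW
    rw [Hyp, h, finrank_top, finrank_fin_fun] at this
    omega
  obtain ⟨v, hv⟩ := SetLike.exists_not_mem_of_ne_top W hlt rfl
  obtain ⟨f, hfv, hf⟩ := Submodule.exists_dual_map_eq_bot_of_notMem hv inferInstance
  refine ⟨f, fun h => hfv (by rw [h]; rfl), ?_⟩
  refine (Submodule.eq_of_le_of_finrank_eq ?_ ?_).symm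
  · intro x hx
    have : f x ∈ W.map f := Submodule.mem_map_of_mem hx
    rw [hf, Submodule.mem_bot] at this
    exact this
  · rw [hW, hyp_ker (g := f) fun h => hfv (by rw [h]; rfl)]

/-- a subspace is cut out by the hyperplanes above it -/
theorem mem_of_hyp {S : Submodule K V} {u : V}
    (h : ∀ H, Hyp H → S ≤ H → u ∈ H) : u ∈ S := by
  by_contra hu
  obtain ⟨g, hgu, hg⟩ := Submodule.exists_dual_map_eq_bot_of_notMem hu inferInstance
  refine hgu (h _ (hyp_ker (g := g) fun h' => hgu (by rw [h']; rfl)) fun x hx => ?_)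
  have : g x ∈ S.map g := Submodule.mem_map_of_mem hx
  rw [hg, Submodule.mem_bot] at this
  exact this

/-- permutations taking hyperplanes to hyperplanes -/
def Coll (σ : Equiv.Perm (Projectivization K V)) : Prop :=
  ∀ H, Hyp H → ∃ H', Hyp H' ∧ ∀ p, On (σ p) H' ↔ On p H

theorem Coll.mul {σ τ : Equiv.Perm (Projectivization K V)} (hσ : Coll σ) (hτ : Coll τ) :
    Coll (σ * τ) := fun H hH => by
  obtain ⟨H', hH', h'⟩ := hτ H hH
  obtain ⟨H'', hH'', h''⟩ := hσ H' hH'
  exact ⟨H'', hH'', fun p => (h'' (τ p)).trans (h' p)⟩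

/-- fixes every point of `W` and every hyperplane through `w` -/
structure Axial (σ : Equiv.Perm (Projectivization K V)) (W : Submodule K V) (w : V) : Prop where
  ofData ::
  coll : Coll σ
  fix : ∀ p, On p W → σ p = p
  pencil : ∀ H, Hyp H → w ∈ H → ∀ p, On (σ p) H ↔ On p H

theorem Axial.mul {σ τ : Equiv.Perm (Projectivization K V)} {W : Submodule K V} {w : V}
    (hσ : Axial σ W w) (hτ : Axial τ W w) : Axial (σ * τ) W w where
  coll := hσ.coll.mul hτ.coll
  fix p hp := by rw [Equiv.Perm.mul_apply, hτ.fix p hp, hσ.fix p hp]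
  pencil H hH hw p := (hσ.pencil H hH hw (τ p)).trans (hτ.pencil H hH hw p)

theorem Axial.hyp_through {f : V →ₗ[K] K} {w : V} {σ : Equiv.Perm (Projectivization K V)}
    (hσ : Axial σ (LinearMap.ker f) w) {v : V} (hv0 : v ≠ 0) (hv : f v = 1)
    (hfix : σ (mk K v hv0) = mk K v hv0) {H : Submodule K V} (hH : Hyp H) (hvH : v ∈ H)
    (p : Projectivization K V) : On (σ p) H ↔ On p H := by
  obtain ⟨H', hH', h'⟩ := hσ.coll H hH
  have hle : H ≤ H' := fun x hx => by
    have hv' : v ∈ H' := (on_mk hv0).1 (hfix ▸ (h' (mk K v hv0)).2 ((on_mk hv0).2 hvH))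
    rw [← sub_add_cancel x (f x • v)]
    refine H'.add_mem ?_ (H'.smul_mem _ hv')
    set x' := x - f x • v
    have hx' : x' ∈ LinearMap.ker f := by simp [x', hv]
    by_cases h0 : x' = 0
    · rw [h0]; exact H'.zero_mem
    have := (h' (mk K x' h0)).2 ((on_mk h0).2 (H.sub_mem hx (H.smul_mem _ hvH)))
    rwa [hσ.fix _ ((on_mk h0).2 hx'), on_mk] at this
  have : H' = H := (Submodule.eq_of_le_of_finrank_eq hle (by rw [hH, hH'])).symm
  subst this
  exact h' p

theorem Axial.fix_general {f : V →ₗ[K] K} {w : V} {σ : Equiv.Perm (Projectivization K V)}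
    (hσ : Axial σ (LinearMap.ker f) w) (hw : f w = 0) (hw0 : w ≠ 0) {v : V} (hv0 : v ≠ 0)
    (hv : f v = 1) (hfix : σ (mk K v hv0) = mk K v hv0) {u : V} (hu0 : u ≠ 0)
    (hu : u ∉ Submodule.span K {v, w}) : σ (mk K u hu0) = mk K u hu0 := by
  obtain ⟨u', hu'0, hu'⟩ : ∃ u' : V, ∃ h : u' ≠ 0, σ (mk K u hu0) = mk K u' h :=
    ⟨_, rep_nonzero _, (mk_rep _).symm⟩
  have h1 : u' ∈ Submodule.span K {u, v} := mem_of_hyp fun H hH hle => by
    have := (hσ.hyp_through hv0 hv hfix hH (hle (Submodule.subset_span (by simp)))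
      (mk K u hu0)).2 ((on_mk hu0).2 (hle (Submodule.subset_span (by simp))))
    rwa [hu', on_mk] at this
  have h2 : u' ∈ Submodule.span K {u, w} := mem_of_hyp fun H hH hle => by
    have := (hσ.pencil H hH (hle (Submodule.subset_span (by simp))) (mk K u hu0)).2
      ((on_mk hu0).2 (hle (Submodule.subset_span (by simp))))
    rwa [hu', on_mk] at this
  obtain ⟨a, b, hab⟩ := Submodule.mem_span_pair.1 h1
  obtain ⟨c, d, hcd⟩ := Submodule.mem_span_pair.1 h2
  have hac : a = c := by
    by_contra hne
    refine hu ?_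
    have e : (a - c) • u = d • w - b • v := by
      rw [sub_smul, sub_eq_sub_iff_add_eq_add, hab, add_comm (d • w), hcd]
    rw [← inv_smul_smul₀ (sub_ne_zero.2 hne) u, e]
    refine Submodule.smul_mem _ _ (Submodule.sub_mem _ ?_ ?_) <;>
      exact Submodule.smul_mem _ _ (Submodule.subset_span (by simp))
  subst hac
  have hbd : b • v = d • w := add_left_cancel (hab.trans hcd.symm)
  have hb : b = 0 := by simpa [hv, hw] using congrArg f hbd
  rw [hu', mk_eq_mk_iff']
  exact ⟨a, by rw [← hab, hb, zero_smul, add_zero]⟩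

theorem Axial.eq_one {f : V →ₗ[K] K} {w : V} (hn : 2 ≤ n) {σ : Equiv.Perm (Projectivization K V)}
    (hσ : Axial σ (LinearMap.ker f) w) (hw : f w = 0) (hw0 : w ≠ 0) {v : V} (hv0 : v ≠ 0)
    (hv : f v = 1) (hfix : σ (mk K v hv0) = mk K v hv0) : σ = 1 := by
  obtain ⟨u₀, hu₀W, hu₀⟩ : ∃ u₀ ∈ LinearMap.ker f, u₀ ∉ Submodule.span K {w} := by
    by_contra hall
    push Not at hall
    have h1 := Submodule.finrank_mono (show LinearMap.ker f ≤ Submodule.span K {w} from hall)
    rw [finrank_span_singleton hw0] at h1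
    have h2 : finrank K (LinearMap.ker f) = n :=
      hyp_ker (g := f) fun h => by simp [h] at hv
    omega
  have hu₀' : u₀ ∉ Submodule.span K {v, w} := fun h => by
    obtain ⟨a, b, hab⟩ := Submodule.mem_span_pair.1 h
    have ha : a = 0 := by simpa [hv, hw, LinearMap.mem_ker.1 hu₀W] using congrArg f hab
    refine hu₀ (Submodule.mem_span_singleton.2 ⟨b, ?_⟩)
    rw [← hab, ha, zero_smul, zero_add]
  set v₁ := v + u₀ with hv₁
  have hfv₁ : f v₁ = 1 := by simp [hv₁, hv, LinearMap.mem_ker.1 hu₀W]
  have hv₁0 : v₁ ≠ 0 := fun h => by simp [h] at hfv₁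
  have hvmem : v ∈ Submodule.span K {v, w} := Submodule.subset_span (by simp)
  have hv₁' : v₁ ∉ Submodule.span K {v, w} := fun h => hu₀' (by
    simpa [hv₁] using Submodule.sub_mem _ h hvmem)
  refine Equiv.ext fun p => ?_
  induction p using Projectivization.ind with
  | _ u hu0 =>
    rw [Equiv.Perm.one_apply]
    by_cases huW : f u = 0
    · exact hσ.fix _ ((on_mk hu0).2 huW)
    by_cases hu : u ∈ Submodule.span K {v, w}
    swap
    · exact hσ.fix_general hw hw0 hv0 hv hfix hu0 hu
    refine hσ.fix_general hw hw0 hv₁0 hfv₁ (hσ.fix_general hw hw0 hv0 hv hfix hv₁0 hv₁') hu0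
      fun h => ?_
    obtain ⟨a, b, hab⟩ := Submodule.mem_span_pair.1 h
    have ha : a ≠ 0 := fun h0 => huW (by rw [← hab, h0]; simp [hw])
    refine hv₁' ?_
    rw [← inv_smul_smul₀ ha v₁, show a • v₁ = u - b • w by rw [← hab, add_sub_cancel_right]]
    exact Submodule.smul_mem _ _ (Submodule.sub_mem _ hu
      (Submodule.smul_mem _ _ (Submodule.subset_span (by simp))))

/-- the transvection of a functional and a vector in its kernel -/
noncomputable def tv (f : V →ₗ[K] K) (u : V) (h : f u = 0) :
    Matrix.SpecialLinearGroup (Fin (n + 1)) K :=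
  ⟨LinearMap.toMatrix' (LinearMap.transvection f u), by
    rw [LinearMap.det_toMatrix', LinearMap.transvection.det, h, add_zero]⟩

theorem tv_smul (f : V →ₗ[K] K) (u : V) (h : f u = 0) (x : V) :
    tv f u h • x = x + f x • u := by
  show Matrix.mulVec (LinearMap.toMatrix' (LinearMap.transvection f u)) x = _
  rw [LinearMap.toMatrix'_mulVec, LinearMap.transvection.apply]

theorem tv_inv (f : V →ₗ[K] K) (u : V) (h : f u = 0) (x : V) :
    tv f u h • tv f (-u) (by simp [h]) • x = x := by
  rw [tv_smul, tv_smul]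
  simp [h]

/-- the action of the special linear group -/
noncomputable def perm :
    Matrix.SpecialLinearGroup (Fin (n + 1)) K →* Equiv.Perm (Projectivization K V) :=
  MulAction.toPermHom _ _

theorem perm_mk (s : Matrix.SpecialLinearGroup (Fin (n + 1)) K) {x : V} (hx : x ≠ 0) :
    perm s (mk K x hx) = mk K (s • x) ((smul_ne_zero_iff_ne s).mpr hx) := rfl

theorem axial_tv (f : V →ₗ[K] K) (u : V) (h : f u = 0) {w : V} {a : K} (hu : u = a • w) :
    Axial (perm (tv f u h)) (LinearMap.ker f) w where
  coll H hH := by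
    let e : V ≃ₗ[K] V :=
      { toFun := fun x => tv f (-u) (by simp [h]) • x
        map_add' := smul_add _
        map_smul' := fun c x => by
          simp only [tv_smul, map_smul, RingHom.id_apply, smul_add, smul_smul, smul_eq_mul]
        invFun := fun x => tv f u h • x
        left_inv := fun x => tv_inv f u h x
        right_inv := fun x => by
          simp only [tv_smul]
          simp [h] }
    refine ⟨H.comap (e : V →ₗ[K] V), ?_, fun p => ?_⟩
    · rw [Hyp, Submodule.comap_equiv_eq_map_symm, LinearEquiv.finrank_map_eq]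
      exact hH
    · induction p using Projectivization.ind with
      | _ x hx =>
        rw [perm_mk, on_mk, on_mk, Submodule.mem_comap]
        show tv f (-u) _ • tv f u h • x ∈ H ↔ _
        rw [tv_smul, tv_smul]
        simp [h]
  fix p hp := by
    induction p using Projectivization.ind with
    | _ x hx =>
      rw [on_mk, LinearMap.mem_ker] at hp
      rw [perm_mk, mk_eq_mk_iff']
      exact ⟨1, by rw [one_smul, tv_smul, hp, zero_smul, add_zero]⟩
  pencil H hH hw p := by
    induction p using Projectivization.ind with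
    | _ x hx =>
      rw [perm_mk, on_mk, on_mk, tv_smul]
      exact H.add_mem_iff_left (H.smul_mem _ (hu ▸ H.smul_mem a hw))

theorem perm_tv_inv (f : V →ₗ[K] K) (u : V) (h : f u = 0) :
    perm (tv f u h) * perm (tv f (-u) (by simp [h])) = 1 := by
  refine Equiv.ext fun p => ?_
  induction p using Projectivization.ind with
  | _ x hx =>
    rw [Equiv.Perm.mul_apply, perm_mk, perm_mk, Equiv.Perm.one_apply, mk_eq_mk_iff']
    exact ⟨1, by rw [one_smul, tv_inv]⟩

theorem smul_ker {f : V →ₗ[K] K} {w : V} (hw : f w = 0) (a : K) : f (a • w) = 0 := by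
  simp [hw]

/-- an axial collineation is a transvection -/
theorem Axial.eq_tv {f : V →ₗ[K] K} {w : V} (hn : 2 ≤ n) {σ : Equiv.Perm (Projectivization K V)}
    (hσ : Axial σ (LinearMap.ker f) w) (hw : f w = 0) (hw0 : w ≠ 0) (hf : f ≠ 0) :
    ∃ a : K, σ = perm (tv f (a • w) (smul_ker hw a)) := by
  obtain ⟨v, hv⟩ := f.surjective_of_ne_zero hf 1
  have hv0 : v ≠ 0 := fun h => by simp [h] at hv
  obtain ⟨u', hu'0, hu'⟩ : ∃ u' : V, ∃ h : u' ≠ 0, σ (mk K v hv0) = mk K u' h :=
    ⟨_, rep_nonzero _, (mk_rep _).symm⟩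
  have h1 : u' ∈ Submodule.span K {v, w} := mem_of_hyp fun H hH hle => by
    have := (hσ.pencil H hH (hle (Submodule.subset_span (by simp))) (mk K v hv0)).2
      ((on_mk hv0).2 (hle (Submodule.subset_span (by simp))))
    rwa [hu', on_mk] at this
  obtain ⟨α, β, hab⟩ := Submodule.mem_span_pair.1 h1
  have hα : α ≠ 0 := fun h0 => by
    have hfu : f u' = 0 := by rw [← hab, h0]; simp [hw]
    have h2 := hσ.fix (mk K u' hu'0) ((on_mk hu'0).2 hfu)
    rw [← h2] at hu'
    obtain ⟨c, hc⟩ := (mk_eq_mk_iff' K _ _ hv0 hu'0).1 (σ.injective hu')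
    have := congrArg f hc
    simp [hv, hfu] at this
  refine ⟨β / α, ?_⟩
  set u := (β / α) • w with hu
  have hfu : f u = 0 := by simp [hu, hw]
  have hτ : perm (tv f (-u) (by simp [hfu])) * σ = 1 := by
    refine Axial.eq_one hn ((axial_tv f (-u) (by simp [hfu]) (a := -(β / α))
      (by rw [hu, neg_smul])).mul hσ) hw hw0 hv0 hv ?_
    rw [Equiv.Perm.mul_apply, hu', perm_mk, mk_eq_mk_iff']
    refine ⟨α, ?_⟩
    rw [tv_smul, ← hab]
    simp [hv, hw, hu, smul_smul, mul_div_cancel₀ _ hα]
  calc σ = perm (tv f u hfu) * (perm (tv f (-u) (by simp [hfu])) * σ) := by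
        rw [← mul_assoc, perm_tv_inv, one_mul]
    _ = _ := by rw [hτ, mul_one]

theorem transvection_eq_tv {i j : Fin (n + 1)} (hij : i ≠ j) (c : K) :
    Matrix.SpecialLinearGroup.transvection hij c =
      tv (LinearMap.proj j) (Pi.single i c) (by simp [hij.symm]) := by
  refine Subtype.ext (Matrix.ext_iff_mulVec.2 fun x => ?_)
  rw [CfsgLib.Classical.transvection_mulVec]
  refine Eq.trans ?_ (tv_smul _ _ _ x).symm
  funext k
  rcases eq_or_ne k i with rfl | hk
  · simp [mul_comm]
  · simp [hk]

end PSLAux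

open PSLAux Projectivization in
/-- The translations are transvections: the normal closure of the translation group is the
projective special linear group, with trivial centraliser. -/
theorem Transl.psl {G : Type u} {Ω : Type v} [Group G] [MulAction G Ω]
    [Finite G] [Finite Ω] [FaithfulSMul G Ω] {D : Des G Ω} (T : Transl D) {K : Type} [Field K]
    [Fintype K] (hK : Fintype.card K = T.z) (P : ProjModel D T.n K) :
    ∃ N : Subgroup G, N.Normal ∧
      Nonempty (N ≃* Matrix.ProjectiveSpecialLinearGroup (Fin (T.n + 1)) K) ∧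
      Subgroup.centralizer (N : Set G) = ⊥ := by
  classical
  let ρ : G →* Equiv.Perm (Projectivization K (Fin (T.n + 1) → K)) :=
    (Equiv.permCongrHom P.φ).toMonoidHom.comp (MulAction.toPermHom G Ω)
  have hρ : ∀ g p, ρ g p = P.φ (g • P.φ.symm p) := fun _ _ => rfl
  have hρi : Function.Injective ρ :=
    (Equiv.permCongrHom P.φ).injective.comp MulAction.toPerm_injective
  let N : Subgroup G := Subgroup.normalClosure (T.M : Set G)
  -- conjugates of centred translations are transvections
  have key : ∀ (g : G) (f : (Fin (T.n + 1) → K) →ₗ[K] K) (w : Fin (T.n + 1) → K) (hw0 : w ≠ 0),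
      f ≠ 0 → ∀ hw : f w = 0,
      (∀ p, p ∈ g • D.B ↔ On (P.φ p) (LinearMap.ker f)) →
      (∀ x ∈ T.M, D.Centre x (g⁻¹ • P.φ.symm (Projectivization.mk K w hw0)) →
        ∃ a : K, ρ (g * x * g⁻¹) = perm (tv f (a • w) (smul_ker hw a))) ∧
      ∀ a : K, ∃ y ∈ N, ρ y = perm (tv f (a • w) (smul_ker hw a)) := by
    intro g f w hw0 hf hw hB
    set c₀ := g⁻¹ • P.φ.symm (Projectivization.mk K w hw0) with hc₀
    have hc₀B : c₀ ∈ D.B := by
      rw [hc₀, ← Set.mem_smul_set_iff_inv_smul_mem, hB, Equiv.apply_symm_apply, on_mk]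
      exact hw
    have hax : ∀ x ∈ T.M, D.Centre x c₀ → Axial (ρ (g * x * g⁻¹)) (LinearMap.ker f) w := by
      intro x hx hc
      refine ⟨fun H hH => ?_, fun p hp => ?_, fun H hH hwH p => ?_⟩
      · obtain ⟨C, hC, hCH⟩ := P.hyper_block H hH
        obtain ⟨W', hW', hCW⟩ := P.block_hyper ((g * x * g⁻¹) • C)
          (MulAction.mem_orbit_of_mem_orbit _ hC)
        refine ⟨W', hW', fun p => ?_⟩
        have h2 := hCH (P.φ.symm p)
        rw [Equiv.apply_symm_apply] at h2
        unfold On
        rw [hρ, ← hCW, Set.smul_mem_smul_set_iff, h2]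
      · have h1 : g⁻¹ • P.φ.symm p ∈ D.B := by
          rw [← Set.mem_smul_set_iff_inv_smul_mem, hB, Equiv.apply_symm_apply]
          exact hp
        rw [hρ, mul_smul, mul_smul, T.fix_B x hx _ h1, smul_inv_smul, Equiv.apply_symm_apply]
      · obtain ⟨C, hC, hCH⟩ := P.hyper_block H hH
        have hfixC : (g * x * g⁻¹) • C = C := by
          have h1 : x • g⁻¹ • C = g⁻¹ • C := by
            refine hc _ (MulAction.mem_orbit_of_mem_orbit _ hC) ?_
            rw [hc₀, Set.smul_mem_smul_set_iff, hCH, Equiv.apply_symm_apply]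
            exact (on_mk hw0).2 hwH
          rw [mul_smul, mul_smul, h1, smul_inv_smul]
        have h2 := hCH (P.φ.symm p)
        rw [Equiv.apply_symm_apply] at h2
        unfold On
        rw [hρ, ← hCH, ← h2]
        nth_rewrite 1 [← hfixC]
        exact Set.smul_mem_smul_set_iff
    have hZ : ∀ x ∈ T.M, D.Centre x c₀ →
        ∃ a : K, ρ (g * x * g⁻¹) = perm (tv f (a • w) (smul_ker hw a)) :=
      fun x hx hc => (hax x hx hc).eq_tv T.two_le_n hw hw0 hf
    refine ⟨hZ, fun a => ?_⟩
    choose A hA using hZ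
    let F : {x : G // x ∈ T.M ∧ D.Centre x c₀} → K := fun x => A x.1 x.2.1 x.2.2
    have hFi : Function.Injective F := fun x y h => by
      have hx := hA x.1 x.2.1 x.2.2
      have hy := hA y.1 y.2.1 y.2.2
      simp only [F] at h
      have : ρ (g * x.1 * g⁻¹) = ρ (g * y.1 * g⁻¹) := by rw [hx, hy]; congr 3
      exact Subtype.ext (mul_left_cancel (mul_right_cancel (hρi this)))
    have hcard : Nat.card K ≤ Nat.card {x : G // x ∈ T.M ∧ D.Centre x c₀} := by
      rw [Nat.card_eq_fintype_card, hK, ← T.card_centre c₀ hc₀B, ← Nat.card_coe_set_eq]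
      exact le_rfl
    obtain ⟨x, hx⟩ := (hFi.bijective_of_nat_card_le hcard).2 a
    refine ⟨g * x.1 * g⁻¹, Subgroup.normalClosure_normal.conj_mem _
      (Subgroup.subset_normalClosure x.2.1) g, ?_⟩
    rw [← hx]
    exact hA x.1 x.2.1 x.2.2
  -- the image
  let Φ := PSLAction.toPermHom (K := K) (ι := Fin (T.n + 1))
  have hΦ : ∀ s : Matrix.SpecialLinearGroup (Fin (T.n + 1)) K,
      Φ (s : Matrix.ProjectiveSpecialLinearGroup (Fin (T.n + 1)) K) = perm s := fun _ => rfl
  have hrange : N.map ρ = Φ.range := by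
    apply le_antisymm
    · rw [Subgroup.map_le_iff_le_comap]
      refine Subgroup.closure_le _ |>.2 ?_
      intro y hy
      obtain ⟨x, hx, hxy⟩ := Group.mem_conjugatesOfSet_iff.1 hy
      obtain ⟨g, rfl⟩ := isConj_iff.1 hxy
      show ρ (g * x * g⁻¹) ∈ Φ.range
      by_cases hx1 : x = 1
      · rw [hx1, mul_one, mul_inv_cancel, map_one]
        exact one_mem _
      obtain ⟨c, hcB, hc⟩ := T.centre x hx hx1
      obtain ⟨W, hW, hCW⟩ := P.block_hyper (g • D.B) (MulAction.mem_orbit _ _)
      obtain ⟨f, hf, hker⟩ := exists_functional hW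
      subst hker
      have hcW : On (P.φ (g • c)) (LinearMap.ker f) :=
        (hCW _).1 (Set.smul_mem_smul_set hcB)
      rw [← mk_rep (P.φ (g • c)), on_mk] at hcW
      have hc₀ : D.Centre x (g⁻¹ • P.φ.symm (Projectivization.mk K _ (rep_nonzero (P.φ (g • c))))) := by
        rw [mk_rep, Equiv.symm_apply_apply, inv_smul_smul]
        exact fun C hC hcC => (hc C hC).2 (Or.inr hcC)
      obtain ⟨a, ha⟩ := (key g f _ (rep_nonzero _) hf hcW hCW).1 x hx hc₀
      exact ⟨_, (hΦ _).trans ha.symm⟩
    · suffices hsuff : ∀ s, perm s ∈ N.map ρ by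
        rintro _ ⟨q, rfl⟩
        induction q using QuotientGroup.induction_on with
        | H s => exact hsuff s
      intro s
      have htop : (N.map ρ).comap perm = ⊤ := by
        refine CfsgLib.Classical.eq_top_of_transvection_mem _ fun i j hij c => ?_
        show perm _ ∈ N.map ρ
        rw [transvection_eq_tv hij c]
        by_cases hc : c = 0
        · subst hc
          have : perm (tv (LinearMap.proj j : (Fin (T.n + 1) → K) →ₗ[K] K) (Pi.single i 0)
              (by simp)) = 1 := by
            refine Equiv.ext fun p => ?_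
            induction p using Projectivization.ind with
            | _ x hx =>
              rw [perm_mk, Equiv.Perm.one_apply, mk_eq_mk_iff']
              exact ⟨1, by rw [one_smul, tv_smul]; simp⟩
          rw [this]
          exact one_mem _
        have hf : (LinearMap.proj j : (Fin (T.n + 1) → K) →ₗ[K] K) ≠ 0 := fun h => by
          have := LinearMap.congr_fun h (Pi.single j 1)
          simp at this
        obtain ⟨C, ⟨g, rfl⟩, hCW⟩ := P.hyper_block _ (hyp_ker hf)
        have hw0 : Pi.single i c ≠ (0 : Fin (T.n + 1) → K) := fun h =>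
          hc (by simpa using congrFun h i)
        obtain ⟨y, hy, he⟩ := (key g _ _ hw0 hf (by simp [hij.symm]) hCW).2 1
        refine ⟨y, hy, ?_⟩
        rw [he]
        congr 2
        rw [one_smul]
      exact (htop ▸ Subgroup.mem_top s : s ∈ (N.map ρ).comap perm)
  refine ⟨N, Subgroup.normalClosure_normal, ⟨?_⟩, ?_⟩
  · exact ((N.equivMapOfInjective ρ hρi).trans (MulEquiv.subgroupCongr hrange)).trans
      (MonoidHom.ofInjective Matrix.ProjectiveSpecialLinearGroup.toPermHom_injective).symm
  · rw [Subgroup.eq_bot_iff_forall]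
    intro z hz
    apply hρi
    rw [map_one]
    refine Equiv.ext fun p => ?_
    rw [Equiv.Perm.one_apply]
    by_contra hne
    obtain ⟨r, hr⟩ : ∃ r, r ≠ p ∧ r ≠ ρ z p := by
      by_contra hall
      push Not at hall
      have hle : Nat.card Ω ≤ 2 := by
        rw [Nat.card_congr P.φ]
        refine (Nat.card_le_card_of_surjective (fun b : Bool => cond b p (ρ z p))
          fun r => ?_).trans (by simp)
        by_cases hrp : r = p
        · exact ⟨true, hrp.symm⟩
        · exact ⟨false, (hall r hrp).symm⟩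
      have := D.two_le
      have := D.add_two_le
      omega
    obtain ⟨s, hs1, hs2⟩ := MulAction.is_two_pretransitive_iff.1
      (inferInstance : MulAction.IsMultiplyPretransitive
        (Matrix.SpecialLinearGroup (Fin (T.n + 1)) K) (Projectivization K (Fin (T.n + 1) → K)) 2)
      (Ne.symm hne) hr.1.symm
    have hmem : perm s ∈ N.map ρ := by rw [hrange]; exact ⟨_, hΦ s⟩
    obtain ⟨y, hy, hys⟩ := hmem
    have hcom := congrArg ρ (Subgroup.mem_centralizer_iff.1 hz y hy)
    rw [map_mul, map_mul, hys] at hcom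
    have h3 : perm s (ρ z p) = ρ z (perm s p) := Equiv.Perm.congr_fun hcom p
    rw [show perm s p = p from hs1] at h3
    exact hr.2 ((show r = perm s (ρ z p) from hs2.symm).trans h3)

end CfsgLib.Ito
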