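import Cfsg.Agent.Lib.ItoTwo.Centre
import Cfsg.Agent.Lib.CharsMore.Frobenius

/-!
# Ito's theorem: a normal subgroup fixing `B` pointwise and free off `B`

A non-trivial element fixing `B` pointwise fixes at most one point off `B`, so the pointwise
stabiliser is either free off `B` or a transitive Frobenius group there.
-/

set_option autoImplicit false
set_option linter.unusedSectionVars false
set_option linter.unusedDecidableInType false

open scoped Pointwise
open MulAction

namespace CfsgLib.Ito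

universe u v

variable {G : Type u} {Ω : Type v} [Group G] [MulAction G Ω] [Finite Ω] [FaithfulSMul G Ω]

theorem Des.eq_of_fixed_off (D : Des G Ω) {x : G} (hx1 : x ≠ 1) (hxB : ∀ b ∈ D.B, x • b = b) {p q : Ω}
    (hp : p ∉ D.B) (hq : q ∉ D.B) (hxp : x • p = p) (hxq : x • q = q) : p = q := by
  classical
  by_contra hpq
  cases nonempty_fintype Ω
  have hxBs : x • D.B = D.B := by
    rw [← Set.image_smul]; exact Set.EqOn.image_eq_self fun b hb => hxB b hb
  let FB : Finset (Set Ω) := Finset.univ.filter fun C => C ∈ D.blocks ∧ x • C = C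
  let out : Finset Ω := Finset.univ.filter fun w => w ∉ D.B
  let fixd : Finset Ω := out.filter fun w => x • w = w
  let movd : Finset Ω := out.filter fun w => ¬ x • w = w
  have hFB : FB.card = D.k + fixd.card := by
    rw [← Set.ncard_coe_finset, show (FB : Set (Set Ω)) = {C ∈ D.blocks | x • C = C} by ext C; simp [FB],
      ← D.fix_eq x, ← D.card_B, ← Set.ncard_coe_finset fixd,
      ← Set.ncard_union_eq (by rw [Set.disjoint_left]; intro w hw hw'; simp [fixd, out, hw] at hw')
        (Set.toFinite _) (Set.toFinite _)]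
    congr 1
    ext w
    simp only [Set.mem_ofPred_eq, Set.mem_union, fixd, out, Finset.coe_filter, Finset.mem_filter,
      Finset.mem_univ, true_and]
    exact ⟨fun h => (em (w ∈ D.B)).imp id fun hw => ⟨hw, h⟩, fun h => h.elim (hxB w) fun h => h.2⟩
  have hsplit : fixd.card + movd.card = out.card := Finset.card_filter_add_card_filter_not _
  have hout : out.card + D.k = Nat.card Ω := by
    rw [← D.card_B, ← Set.ncard_coe_finset, ← Set.ncard_add_ncard_compl D.B (Set.toFinite _) (Set.toFinite _)]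
    rw [add_comm]; congr 2; ext w; simp [out]
  have hset : ∀ w, {C | C ∈ FB ∧ w ∈ C} = {C ∈ D.blocks | x • C = C ∧ w ∈ C} := fun w => by
    ext C; simp [FB, and_assoc]
  have hle : ∀ w ∈ out, {C | C ∈ FB ∧ w ∈ C}.ncard ≤ if x • w = w then D.k else D.lam := fun w hw => by
    rw [hset]
    split_ifs with h
    · rw [← D.deg w]
      exact Set.ncard_le_ncard (fun C hC => ⟨hC.1, hC.2.2⟩) (Set.toFinite _)
    · rw [← D.join w (x • w) (Ne.symm h)]
      exact Set.ncard_le_ncard (Semireg.fixed_thru_sub (D := D)) (Set.toFinite _)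
  have hrow : ∀ C ∈ FB, {w | w ∈ out ∧ w ∈ C}.ncard + (if C = D.B then 0 else D.lam) =
      (if C = D.B then 0 else D.k) := fun C hC => by
    have he : {w | w ∈ out ∧ w ∈ C} = C \ D.B := by ext w; simp [out, and_comm]
    rw [he]
    split_ifs with h
    · rw [h]; simp
    · exact D.ncard_off (Finset.mem_filter.1 hC).2.1 h
  have hsum := Finset.sum_congr rfl hrow
  rw [Finset.sum_add_distrib, Finset.sum_ite, Finset.sum_ite] at hsum
  simp only [Finset.sum_const_zero, zero_add, Finset.sum_const, smul_eq_mul] at hsum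
  have hne : (FB.filter fun C => ¬ C = D.B).card + 1 = D.k + fixd.card := by
    rw [← hFB, Finset.filter_ne', Finset.card_erase_add_one (by simp [FB, D.base_mem, hxBs])]
  have htot : ∑ w ∈ out, {C | C ∈ FB ∧ w ∈ C}.ncard = ∑ w ∈ out, if x • w = w then D.k else D.lam := by
    rw [sum_ncard_comm out FB fun w C => w ∈ C, Finset.sum_ite, Finset.sum_const, Finset.sum_const,
      smul_eq_mul, smul_eq_mul]
    show _ = fixd.card * D.k + movd.card * D.lam
    have hp' := D.param
    have h2 := D.add_two_le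
    obtain ⟨a, ha⟩ : ∃ a, D.k = a + 1 := ⟨D.k - 1, by have := D.two_le; omega⟩
    rw [← hout, ← hsplit, ha] at hp'
    simp only [← add_assoc, Nat.add_sub_cancel] at hp'
    rw [ha] at hne hsum ⊢
    have hf : (FB.filter fun C => ¬ C = D.B).card = a + fixd.card := by omega
    rw [hf] at hsum
    nlinarith
  have heq := (Finset.sum_eq_sum_iff_of_le hle).1 htot
  have hall : ∀ w, w ∉ D.B → x • w = w → ∀ C ∈ D.blocks, w ∈ C → x • C = C := fun w hw hxw C hC hwC => by
    have h := heq w (by simp [out, hw])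
    rw [if_pos hxw, hset, ← D.deg w] at h
    have he := Set.eq_of_subset_of_ncard_le
      (s := {C ∈ D.blocks | x • C = C ∧ w ∈ C}) (t := {C ∈ D.blocks | w ∈ C})
      (fun C hC => ⟨hC.1, hC.2.2⟩) h.ge (Set.toFinite _)
    exact ((Set.ext_iff.1 he C).2 ⟨hC, hwC⟩).2.1
  obtain ⟨r, hr⟩ : ∃ r, x • r ≠ r := by
    by_contra h
    push Not at h
    exact hx1 (FaithfulSMul.eq_of_smul_eq_smul fun w : Ω => by rw [h w, one_smul])
  have hrB : r ∉ D.B := fun h => hr (hxB r h)
  have hmoved : ∀ w, w ∉ D.B → x • w = w →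
      {C ∈ D.blocks | w ∈ C ∧ r ∈ C} = {C ∈ D.blocks | x • C = C ∧ r ∈ C} := fun w hw hxw => by
    have h := heq r (by simp [out, hrB])
    rw [if_neg hr, hset] at h
    refine Set.eq_of_subset_of_ncard_le (fun C hC => ⟨hC.1, hall w hw hxw C hC.1 hC.2.1, hC.2.2⟩) ?_
      (Set.toFinite _)
    rw [h, D.join w r fun e => hr (e ▸ hxw)]
  obtain ⟨C, hC, hpC, hqC⟩ : ∃ C ∈ D.blocks, p ∈ C ∧ q ∉ C := by
    by_contra h
    push Not at h
    have h1 := D.join p q hpq
    rw [show {C ∈ D.blocks | p ∈ C ∧ q ∈ C} = {C ∈ D.blocks | p ∈ C} from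
      Set.ext fun C => ⟨fun h' => ⟨h'.1, h'.2.1⟩, fun h' => ⟨h'.1, h'.2, h C h'.1 h'.2⟩⟩, D.deg p] at h1
    exact absurd D.lam_lt (by omega)
  have hCB : C ≠ D.B := fun e => hp (e ▸ hpC)
  have hrC : r ∉ C := fun hrC => hqC
    ((Set.ext_iff.1 ((hmoved p hp hxp).trans (hmoved q hq hxq).symm) C).1 ⟨hC, hpC, hrC⟩).2.1
  -- every fixed outside point of `C` is `p`
  have honly : ∀ w ∈ C, w ∉ D.B → w = p := by
    intro w hwC hw
    by_contra hwp
    by_cases hxw : x • w = w
    · have e1 := (hmoved p hp hxp).trans (hmoved w hw hxw).symm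
      have e2 : {C ∈ D.blocks | p ∈ C ∧ r ∈ C} = {C ∈ D.blocks | p ∈ C ∧ w ∈ C} :=
        Set.eq_of_subset_of_ncard_le (fun E hE => ⟨hE.1, hE.2.1, ((Set.ext_iff.1 e1 E).1 hE).2.1⟩)
          (by rw [D.join p r fun e => hr (e ▸ hxp), D.join p w (Ne.symm hwp)]) (Set.toFinite _)
      exact hrC ((Set.ext_iff.1 e2 C).2 ⟨hC, hpC, hwC⟩).2.2
    · have h := heq w (by simp [out, hw])
      rw [if_neg hxw, hset] at h
      have e1 : ∀ u, u ∉ D.B → x • u = u →
          {C ∈ D.blocks | u ∈ C ∧ w ∈ C} = {C ∈ D.blocks | x • C = C ∧ w ∈ C} := fun u hu hxu =>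
        Set.eq_of_subset_of_ncard_le (fun C hC => ⟨hC.1, hall u hu hxu C hC.1 hC.2.1, hC.2.2⟩)
          (by rw [h, D.join u w fun e => hxw (e ▸ hxu)]) (Set.toFinite _)
      exact hqC ((Set.ext_iff.1 ((e1 p hp hxp).trans (e1 q hq hxq).symm) C).1 ⟨hC, hpC, hwC⟩).2.1
  have h1 := D.ncard_off hC hCB
  rw [show C \ D.B = {p} from Set.ext fun w => ⟨fun h => honly w h.1 h.2, by rintro rfl; exact ⟨hpC, hp⟩⟩,
    Set.ncard_singleton] at h1
  have h2 := D.param
  have h3 := D.add_two_le
  rw [← h1, show (1 + D.lam) * (1 + D.lam - 1) = D.lam * (1 + D.lam) by rw [Nat.add_sub_cancel_left, mul_comm]] at h2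
  have := Nat.eq_of_mul_eq_mul_left D.lam_pos h2
  omega

theorem exists_semireg [Finite G] (D : Des G Ω)
    (h : ∃ x : G, x ≠ 1 ∧ ∀ b ∈ D.B, x • b = b) : Nonempty (Semireg D) := by
  classical
  cases nonempty_fintype Ω
  cases nonempty_fintype G
  obtain ⟨x₀, hx₀, hx₀B⟩ := h
  let K : Subgroup G := fixingSubgroup G D.B
  have hK : ∀ {x : G}, x ∈ K ↔ ∀ b ∈ D.B, x • b = b := fun {x} => mem_fixingSubgroup_iff G
  have hKn : ∀ g : G, g • D.B = D.B → ∀ x ∈ K, g * x * g⁻¹ ∈ K := fun g hg x hx => hK.2 fun b hb => by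
    have hb' : g⁻¹ • b ∈ D.B := by rwa [← Set.mem_smul_set_iff_inv_smul_mem, hg]
    rw [mul_smul, mul_smul, hK.1 hx _ hb', smul_inv_smul]
  by_cases hfree : ∀ x ∈ K, ∀ p ∉ D.B, x • p = p → x = 1
  · exact ⟨{
      M := K
      ne_bot := fun e => hx₀ (Subgroup.mem_bot.1 (e ▸ hK.2 hx₀B))
      fix_B := fun x hx => hK.1 hx
      free := hfree
      normal := hKn }⟩
  push Not at hfree
  obtain ⟨x₁, hx₁, p₀, hp₀, hx₁p, hx₁1⟩ := hfree
  have hKoff : ∀ x ∈ K, ∀ {p : Ω}, p ∉ D.B → x • p ∉ D.B := fun x hx p hp h => hp (by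
    have := hK.1 (K.inv_mem hx) _ h
    rw [inv_smul_smul] at this
    rwa [this])
  let Hs : Subgroup K := stabilizer K p₀
  have hTI : ∀ g : K, g ∉ Hs → ∀ w ∈ Hs, g * w * g⁻¹ ∈ Hs → w = 1 := by
    intro g hg w hw hgw
    by_contra hw1
    have h1 : (w : G) • ((g : G)⁻¹ • p₀) = (g : G)⁻¹ • p₀ := by
      have h2 : ((g * w * g⁻¹ : K) : G) • p₀ = p₀ := hgw
      rw [Subgroup.coe_mul, Subgroup.coe_mul, Subgroup.coe_inv, mul_smul, mul_smul] at h2
      exact eq_inv_smul_iff.2 h2
    have := D.eq_of_fixed_off (fun e => hw1 (Subtype.ext e)) (hK.1 w.2) hp₀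
      (hKoff _ (K.inv_mem g.2) hp₀) hw h1
    exact hg (eq_inv_smul_iff.1 this)
  obtain ⟨N, hNn, hNc, hN⟩ := CfsgLib.CharsMore.exists_frobenius_kernel Hs hTI
  -- all stabilisers have one order, and there is one orbit
  have horb : ∀ q, q ∉ D.B → q ∈ orbit K p₀ := by
    intro q hq
    by_contra hqo
    let T : Finset Ω := (orbit K p₀).toFinset ∪ (orbit K q).toFinset
    have hT : ∀ w ∈ T, w ∉ D.B := fun w hw => by
      rcases Finset.mem_union.1 hw with hw | hw <;> obtain ⟨g, rfl⟩ := Set.mem_toFinset.1 hw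
      · exact hKoff _ g.2 hp₀
      · exact hKoff _ g.2 hq
    have hst : ∀ w, w ∉ D.B → Nat.card (stabilizer K w) = Nat.card Hs := fun w hw => by
      obtain ⟨g, hg, hgw⟩ := D.trans_off p₀ hp₀ w hw
      have hgi : g⁻¹ • D.B = D.B := inv_smul_eq_iff.2 hg.symm
      refine (Nat.card_congr
        { toFun := fun y : Hs => (⟨⟨g * (y.1 : G) * g⁻¹, hKn g hg _ y.1.2⟩, by
            show (g * (y.1 : G) * g⁻¹) • w = w
            rw [← hgw, mul_smul, mul_smul, inv_smul_smul]
            exact congrArg (g • ·) y.2⟩ : stabilizer K w)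
          invFun := fun y => ⟨⟨g⁻¹ * (y.1 : G) * g⁻¹⁻¹, hKn g⁻¹ hgi _ y.1.2⟩, by
            show (g⁻¹ * (y.1 : G) * g⁻¹⁻¹) • p₀ = p₀
            rw [inv_inv, mul_smul, mul_smul, hgw, show (y.1 : G) • w = w from y.2, ← hgw, inv_smul_smul]⟩
          left_inv := fun y => Subtype.ext (Subtype.ext (by simp [mul_assoc]))
          right_inv := fun y => Subtype.ext (Subtype.ext (by simp [mul_assoc])) }).symm
    have hosz : ∀ w, w ∉ D.B → (orbit K w).ncard * Nat.card Hs = Nat.card K := fun w hw => by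
      rw [← hst w hw, ← MulAction.index_stabilizer, mul_comm, Subgroup.card_mul_index]
    have hTcard : T.card * Nat.card Hs = 2 * Nat.card K := by
      rw [Finset.card_union_of_disjoint, add_mul, ← Set.ncard_eq_toFinset_card', ← Set.ncard_eq_toFinset_card',
        hosz p₀ hp₀, hosz q hq, two_mul]
      rw [Finset.disjoint_left]
      intro w hw hw'
      rw [Set.mem_toFinset] at hw hw'
      exact hqo (by rw [← orbit_eq_iff.2 hw, orbit_eq_iff.2 hw']; exact mem_orbit_self q)
    let A : Ω → Finset K := fun w => Finset.univ.filter fun y => y ≠ 1 ∧ y • w = w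
    have hA : ∀ w ∈ T, (A w).card + 1 = Nat.card Hs := fun w hw => by
      rw [← hst w (hT w hw), show Nat.card (stabilizer K w) = ((stabilizer K w : Subgroup K) : Set K).ncard
        from Nat.card_coe_set_eq _, ← Set.ncard_sdiff_singleton_add_one (Subgroup.one_mem _) (Set.toFinite _),
        ← Set.ncard_coe_finset]
      congr 2
      ext y; simp [A, and_comm]
    have hdisj : (T.biUnion A).card = ∑ w ∈ T, (A w).card := Finset.card_biUnion fun a ha b hb hab => by
      rw [Function.onFun, Finset.disjoint_left]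
      intro y hya hyb
      simp only [A, Finset.mem_filter, Finset.mem_univ, true_and] at hya hyb
      exact hab (D.eq_of_fixed_off (fun e => hya.1 (Subtype.ext e)) (hK.1 y.2) (hT a ha) (hT b hb) hya.2 hyb.2)
    have hle : (T.biUnion A).card + 1 ≤ Nat.card K := by
      rw [Nat.card_eq_fintype_card, ← Finset.card_univ, ← Finset.card_erase_add_one (Finset.mem_univ (1 : K))]
      refine Nat.add_le_add_right (Finset.card_le_card fun y hy => ?_) 1
      obtain ⟨w, -, hy⟩ := Finset.mem_biUnion.1 hy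
      exact Finset.mem_erase.2 ⟨(Finset.mem_filter.1 hy).2.1, Finset.mem_univ _⟩
    have hsum := Finset.sum_congr rfl hA
    rw [Finset.sum_add_distrib, ← hdisj, Finset.sum_const, Finset.sum_const, smul_eq_mul, smul_eq_mul,
      mul_one, hTcard] at hsum
    have hh2 : 2 ≤ Nat.card Hs := by
      by_contra hlt
      have hb : Hs = ⊥ := Subgroup.eq_bot_of_card_le _ (by omega)
      have : (⟨x₁, hx₁⟩ : K) ∈ Hs := hx₁p
      rw [hb, Subgroup.mem_bot] at this
      exact hx₁1 (congrArg Subtype.val this)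
    nlinarith
  refine ⟨{
    M := N.map K.subtype
    ne_bot := ?_
    fix_B := ?_
    free := ?_
    normal := ?_ }⟩
  · intro e
    rw [Subgroup.map_eq_bot_iff_of_injective _ K.subtype_injective] at e
    have htop : Hs = ⊤ := by
      rw [e] at hNc
      exact Subgroup.isComplement'_bot_left.1 hNc
    have hKp : ∀ q ∉ D.B, x₁ • q = q := fun q hq => by
      obtain ⟨⟨g, hg⟩, rfl⟩ := horb q hq
      have h2 : (⟨g, hg⟩ : K) ∈ Hs := htop ▸ Subgroup.mem_top _
      have h3 : g • p₀ = p₀ := h2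
      show x₁ • g • p₀ = g • p₀
      rw [h3]; exact hx₁p
    exact hx₁1 (FaithfulSMul.eq_of_smul_eq_smul fun w : Ω => by
      rw [one_smul]
      by_cases hw : w ∈ D.B
      · exact hK.1 hx₁ w hw
      · exact hKp w hw)
  · rintro _ ⟨x, -, rfl⟩
    exact hK.1 x.2
  · rintro _ ⟨x, hx, rfl⟩ p hp hxp
    rcases (hN x).1 hx with h | h
    · rw [h]; rfl
    · obtain ⟨g, rfl⟩ := horb p hp
      exfalso
      refine h g⁻¹ ?_
      show (g⁻¹ * x * g⁻¹⁻¹) • p₀ = p₀
      rw [inv_inv, mul_smul, mul_smul, inv_smul_eq_iff]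
      exact hxp
  · rintro g hg _ ⟨x, hx, rfl⟩
    refine ⟨⟨g * (x : G) * g⁻¹, hKn g hg _ x.2⟩, (hN _).2 ?_, rfl⟩
    rcases (hN x).1 hx with h | h
    · left; rw [h]; exact Subtype.ext (by simp)
    · right
      intro w hw
      have hq : g⁻¹ • (w : G)⁻¹ • p₀ ∉ D.B := by
        rw [← Set.mem_smul_set_iff_inv_smul_mem, hg]
        exact hKoff _ (K.inv_mem w.2) hp₀
      obtain ⟨y, hy⟩ := horb _ hq
      have hy' : (y : G) • p₀ = g⁻¹ • (w : G)⁻¹ • p₀ := hy
      refine h y⁻¹ ?_
      show ((y⁻¹ * x * y⁻¹⁻¹ : K) : G) • p₀ = p₀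
      have h2 : (((w : G) * (g * (x : G) * g⁻¹) * (w : G)⁻¹)) • p₀ = p₀ := hw
      simp only [Subgroup.coe_mul, Subgroup.coe_inv, inv_inv, mul_smul] at h2 ⊢
      rw [hy', inv_smul_eq_iff, hy', eq_inv_smul_iff, eq_inv_smul_iff]
      exact h2

end CfsgLib.Ito
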