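import Cfsg.Agent.Lib.ItoTwo.Centre
import Mathlib.Algebra.Group.Commute.Basic
import Mathlib.Data.Nat.GCD.Basic
import Mathlib.GroupTheory.Perm.Cycle.Type

/-!
# Ito's theorem: the translation group with axis `B`

The elements of order `s` of a semiregular normal subgroup form an elementary abelian group; it is
regular outside `B` and each point of `B` is the centre of a subgroup of order `z`.
-/

set_option autoImplicit false
set_option linter.unusedSectionVars false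
set_option linter.unusedDecidableInType false

open scoped Pointwise
open MulAction

namespace CfsgLib.Ito

universe u v

variable {G : Type u} {Ω : Type v} [Group G] [MulAction G Ω] {D : Des G Ω}

theorem Des.Centre.one (c : Ω) : D.Centre 1 c := fun _ _ _ => one_smul _ _

theorem Des.Centre.mul {x y : G} {c : Ω} (hx : D.Centre x c) (hy : D.Centre y c) : D.Centre (x * y) c :=
  fun C hC hc => by rw [mul_smul, hy C hC hc, hx C hC hc]

theorem Des.Centre.inv {x : G} {c : Ω} (hx : D.Centre x c) : D.Centre x⁻¹ c :=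
  fun C hC hc => inv_smul_eq_iff.2 (hx C hC hc).symm

theorem Des.Centre.conj {x : G} {c : Ω} (hx : D.Centre x c) (g : G) :
    D.Centre (g * x * g⁻¹) (g • c) := fun C hC hc => by
  rw [mul_smul, mul_smul, hx (g⁻¹ • C) (D.smul_mem_blocks hC _) (by rwa [Set.mem_smul_set_iff_inv_smul_mem, inv_inv]),
    smul_inv_smul]

namespace Semireg

variable (S : Semireg D) [Finite Ω]

theorem centre_unique {x : G} (hx : x ∈ S.M) (hx1 : x ≠ 1) {a b : Ω} (ha : D.Centre x a)
    (hb : D.Centre x b) : a = b := by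
  by_contra hab
  have he : ∀ c, D.Centre x c → {C ∈ D.blocks | c ∈ C} = {C ∈ D.blocks | x • C = C} := fun c hc =>
    Set.eq_of_subset_of_ncard_le (fun C hC => ⟨hC.1, hc C hC.1 hC.2⟩)
      (by rw [S.ncard_fixed_blocks hx hx1, D.deg c]) (Set.toFinite _)
  have h : {C ∈ D.blocks | a ∈ C ∧ b ∈ C} = {C ∈ D.blocks | a ∈ C} := by
    ext C
    exact ⟨fun h => ⟨h.1, h.2.1⟩,
      fun h => ⟨h.1, h.2, ((Set.ext_iff.1 ((he a ha).trans (he b hb).symm) C).1 h).2⟩⟩
  have h1 := D.join a b hab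
  rw [h, D.deg a] at h1
  exact absurd D.lam_lt (by omega)

theorem centre_of_iff {x : G} {c : Ω}
    (h : ∀ C ∈ D.blocks, (x • C = C ↔ C = D.B ∨ c ∈ C)) : D.Centre x c :=
  fun C hC hc => (h C hC).2 (Or.inr hc)

theorem commute_of_centre_ne {x y : G} (hx : x ∈ S.M) (hy : y ∈ S.M) {a b : Ω} (haB : a ∈ D.B)
    (hbB : b ∈ D.B) (hab : a ≠ b) (ha : D.Centre x a) (hb : D.Centre y b) : Commute x y := by
  have hconj : ∀ {w : G} {c : Ω} {m : G}, c ∈ D.B → m ∈ S.M → D.Centre w c → D.Centre (m * w * m⁻¹) c :=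
    fun {w c m} hc hm hw => by
      have := hw.conj m
      rwa [S.fix_B m hm c hc] at this
  by_contra hne
  have h1 : x * y * x⁻¹ * y⁻¹ ≠ 1 := fun h =>
    hne (mul_inv_eq_iff_eq_mul.1 (mul_inv_eq_one.1 h))
  refine hab (S.centre_unique (S.M.mul_mem (S.M.mul_mem (S.M.mul_mem hx hy) (S.M.inv_mem hx)) (S.M.inv_mem hy))
    h1 ?_ ?_)
  · have := ha.mul (hconj haB hy ha.inv)
    simpa [mul_assoc] using this
  · exact (hconj hbB hx hb).mul hb.inv

variable [Finite G] [FaithfulSMul G Ω]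

/-- the elements of order `s` commute -/
theorem commute_of_order {s : ℕ} [Fact s.Prime]
    (hc : ∀ x ∈ S.M, x ≠ 1 → x ^ s = 1 →
      ∃ c ∈ D.B, ∀ C ∈ D.blocks, (x • C = C ↔ C = D.B ∨ c ∈ C))
    {x x' : G} (hx : x ∈ S.M) (hxs : x ^ s = 1) (hx' : x' ∈ S.M) (hxs' : x' ^ s = 1) : Commute x x' := by
  by_cases hx1 : x = 1
  · rw [hx1]; exact Commute.one_left _
  by_cases hx'1 : x' = 1
  · rw [hx'1]; exact Commute.one_right _
  obtain ⟨a, haB, ha⟩ := hc x hx hx1 hxs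
  obtain ⟨a', ha'B, ha'⟩ := hc x' hx' hx'1 hxs'
  by_cases haa : a = a'
  swap
  · exact S.commute_of_centre_ne hx hx' haB ha'B haa (centre_of_iff ha) (centre_of_iff ha')
  subst haa
  obtain ⟨b, hbB, hba⟩ := Set.exists_ne_of_one_lt_ncard
    (show 1 < D.B.ncard by rw [D.card_B]; exact D.two_le) a
  obtain ⟨g, hgB, hga⟩ := D.trans_B a haB b hbB
  set y := g * x * g⁻¹ with hy
  have hyM : y ∈ S.M := S.normal g hgB x hx
  have hyb : D.Centre y b := hga ▸ (centre_of_iff ha).conj g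
  have hys : y ^ s = 1 := by rw [hy, conj_pow, hxs]; simp
  have hxy : Commute x y := S.commute_of_centre_ne hx hyM haB hbB hba.symm (centre_of_iff ha) hyb
  have hw1 : x * y ≠ 1 := fun h => hba (S.centre_unique hx hx1
    (by rw [eq_inv_of_mul_eq_one_left h]; exact hyb.inv) (centre_of_iff ha))
  obtain ⟨c, hcB, hw⟩ := hc (x * y) (S.M.mul_mem hx hyM) hw1 (by rw [hxy.mul_pow, hxs, hys, one_mul])
  have hy1 : y ≠ 1 := fun h => hx1 (by simpa [hy, mul_assoc] using congrArg (fun w => g⁻¹ * w * g) h)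
  have hca : c ≠ a := by
    rintro rfl
    refine hba (S.centre_unique hyM hy1 hyb ?_)
    have := (centre_of_iff ha).inv.mul (centre_of_iff hw)
    rwa [inv_mul_cancel_left] at this
  have h1 : Commute (x * y) x' :=
    S.commute_of_centre_ne (S.M.mul_mem hx hyM) hx' hcB ha'B hca (centre_of_iff hw) (centre_of_iff ha')
  have h2 : Commute y x' :=
    S.commute_of_centre_ne hyM hx' hbB ha'B hba hyb (centre_of_iff ha')
  have := h1.mul_left h2.inv_left
  rwa [mul_inv_cancel_right] at this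

include S in
theorem exists_transl : Nonempty (Transl D) := by
  classical
  cases nonempty_fintype Ω
  cases nonempty_fintype G
  obtain ⟨s, hs, hsd, hc⟩ := S.exists_centre
  have : Fact s.Prime := ⟨hs⟩
  obtain ⟨⟨x₀, hx₀⟩, hx₀s⟩ := exists_prime_orderOf_dvd_card' (G := S.M) s hsd
  rw [Subgroup.orderOf_mk] at hx₀s
  have hx₀1 : x₀ ≠ 1 := fun h => hs.one_lt.ne' (by rw [← hx₀s, h, orderOf_one])
  let M' : Subgroup G :=
    { carrier := {x | x ∈ S.M ∧ x ^ s = 1}
      one_mem' := ⟨S.M.one_mem, one_pow _⟩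
      mul_mem' := fun {a b} ha hb => ⟨S.M.mul_mem ha.1 hb.1,
        by rw [(S.commute_of_order hc ha.1 ha.2 hb.1 hb.2).mul_pow, ha.2, hb.2, one_mul]⟩
      inv_mem' := fun {a} ha => ⟨S.M.inv_mem ha.1, by rw [inv_pow, ha.2, inv_one]⟩ }
  let S' : Semireg D :=
    { M := M'
      ne_bot := fun h => hx₀1 (by
        have : x₀ ∈ M' := ⟨hx₀, by rw [← hx₀s]; exact pow_orderOf_eq_one x₀⟩
        rwa [h, Subgroup.mem_bot] at this)
      fix_B := fun x hx => S.fix_B x hx.1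
      free := fun x hx => S.free x hx.1
      normal := fun g hg x hx => ⟨S.normal g hg x hx.1, by rw [conj_pow, hx.2]; simp⟩ }
  have hc' : ∀ x ∈ M', x ≠ 1 → ∃ c ∈ D.B, ∀ C ∈ D.blocks, (x • C = C ↔ C = D.B ∨ c ∈ C) :=
    fun x hx hx1 => hc x hx.1 hx1 hx.2
  let Z : Ω → Subgroup G := fun c =>
    { carrier := {x | x ∈ M' ∧ D.Centre x c}
      one_mem' := ⟨M'.one_mem, Des.Centre.one c⟩
      mul_mem' := fun ha hb => ⟨M'.mul_mem ha.1 hb.1, ha.2.mul hb.2⟩
      inv_mem' := fun ha => ⟨M'.inv_mem ha.1, ha.2.inv⟩ }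
  obtain ⟨c₀, hc₀B, hc₀⟩ := hc x₀ hx₀ hx₀1 (by rw [← hx₀s]; exact pow_orderOf_eq_one x₀)
  set z := Nat.card (Z c₀) with hz
  have hzeq : ∀ c ∈ D.B, Nat.card (Z c) = z := fun c hcB => by
    obtain ⟨g, hgB, hgc⟩ := D.trans_B c₀ hc₀B c hcB
    have hgi : g⁻¹ • D.B = D.B := inv_smul_eq_iff.2 hgB.symm
    have he : Z c = (Z c₀).map (MulAut.conj g).toMonoidHom := by
      ext x
      constructor
      · intro hx
        refine ⟨g⁻¹ * x * g⁻¹⁻¹, ⟨S'.normal g⁻¹ hgi x hx.1, ?_⟩, by simp [mul_assoc]⟩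
        have := hx.2.conj g⁻¹
        rwa [inv_smul_eq_iff.2 hgc.symm] at this
      · rintro ⟨w, hw, rfl⟩
        exact ⟨S'.normal g hgB w hw.1, by simpa [← hgc] using hw.2.conj g⟩
    rw [he, hz]
    exact (Nat.card_congr ((Z c₀).equivMapOfInjective _ (MulAut.conj g).injective).toEquiv).symm
  have hZpow : ∀ K : Subgroup G, K ≤ M' → ∃ a, Nat.card K = s ^ a := fun K hK =>
    IsPGroup.iff_card.1 fun x : K => ⟨1, Subtype.ext (by rw [pow_one]; exact (hK x.2).2)⟩
  have hz1 : 1 < z := by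
    by_contra h
    have hb : Z c₀ = ⊥ := Subgroup.eq_bot_of_card_le _ (by omega)
    have : x₀ ∈ Z c₀ := ⟨⟨hx₀, by rw [← hx₀s]; exact pow_orderOf_eq_one x₀⟩, centre_of_iff hc₀⟩
    rw [hb, Subgroup.mem_bot] at this
    exact hx₀1 this
  -- counting elements by centres
  have hcount : ∀ (T : Finset Ω), (∀ c ∈ T, c ∈ D.B) →
      {x | x ∈ M' ∧ x ≠ 1 ∧ ∃ c ∈ T, D.Centre x c}.ncard = T.card * (z - 1) := by
    intro T hT
    let f : Ω → Finset G := fun c => Finset.univ.filter fun x => x ∈ M' ∧ x ≠ 1 ∧ D.Centre x c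
    have hf : ∀ c ∈ T, (f c).card = z - 1 := fun c hcT => by
      rw [← hzeq c (hT c hcT), ← Set.ncard_coe_finset,
        show Nat.card (Z c) = ((Z c : Subgroup G) : Set G).ncard from Nat.card_coe_set_eq _,
        ← Set.ncard_sdiff_singleton_of_mem (Z c).one_mem]
      congr 1
      ext x
      simp only [f, Finset.coe_filter, Finset.mem_univ, true_and, Set.mem_ofPred_eq, Set.mem_sdiff,
        Set.mem_singleton_iff]
      exact ⟨fun h => ⟨⟨h.1, h.2.2⟩, h.2.1⟩, fun h => ⟨h.1.1, h.2, h.1.2⟩⟩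
    have hu : {x | x ∈ M' ∧ x ≠ 1 ∧ ∃ c ∈ T, D.Centre x c} = (T.biUnion f : Set G) := by
      ext x; simp only [f, Finset.coe_biUnion, Set.mem_iUnion, Finset.coe_filter, Finset.mem_univ, true_and,
        Set.mem_ofPred_eq, Finset.mem_coe]
      exact ⟨fun ⟨h1, h2, c, hcT, h3⟩ => ⟨c, hcT, h1, h2, h3⟩,
        fun ⟨c, hcT, h1, h2, h3⟩ => ⟨h1, h2, c, hcT, h3⟩⟩
    rw [hu, Set.ncard_coe_finset, Finset.card_biUnion, Finset.sum_congr rfl hf, Finset.sum_const,
      smul_eq_mul]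
    intro a _ b _ hab
    rw [Function.onFun, Finset.disjoint_left]
    intro x hxa hxb
    simp only [f, Finset.mem_filter, Finset.mem_univ, true_and] at hxa hxb
    exact hab (S'.centre_unique hxa.1 hxa.2.1 hxa.2.2 hxb.2.2)
  have hk : D.k * (z - 1) + 1 = Nat.card M' := by
    rw [← D.card_B, Set.ncard_eq_toFinset_card', ← hcount D.B.toFinset fun c h => Set.mem_toFinset.1 h,
      show Nat.card M' = ((M' : Subgroup G) : Set G).ncard from Nat.card_coe_set_eq _,
      ← Set.ncard_sdiff_singleton_add_one M'.one_mem (Set.toFinite _)]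
    congr 2
    ext x
    simp only [Set.mem_ofPred_eq, Set.mem_sdiff, Set.mem_singleton_iff, SetLike.mem_coe, Set.mem_toFinset]
    refine ⟨fun h => ⟨h.1, h.2.1⟩, fun h => ⟨h.1, h.2, ?_⟩⟩
    obtain ⟨c, hcB, hcc⟩ := hc' x h.1 h.2
    exact ⟨c, hcB, centre_of_iff hcc⟩
  obtain ⟨C₀, hC₀, hC₀ne, hc₀C⟩ : ∃ C ∈ D.blocks, C ≠ D.B ∧ c₀ ∈ C := by
    obtain ⟨C, ⟨hC, hm⟩, hne⟩ := Set.exists_ne_of_one_lt_ncard
      (show 1 < {C ∈ D.blocks | c₀ ∈ C}.ncard by rw [D.deg]; exact D.two_le) D.B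
    exact ⟨C, hC, hne, hm⟩
  set stab : Subgroup G := M' ⊓ stabilizer G C₀ with hstab
  have hlam : D.lam * (z - 1) + 1 = Nat.card stab := by
    rw [← D.ncard_trace hC₀ hC₀ne, Set.ncard_eq_toFinset_card',
      ← hcount (C₀ ∩ D.B).toFinset fun c h => (Set.mem_toFinset.1 h).2,
      show Nat.card stab = ((stab : Subgroup G) : Set G).ncard from Nat.card_coe_set_eq _,
      ← Set.ncard_sdiff_singleton_add_one stab.one_mem (Set.toFinite _)]
    congr 2
    ext x
    simp only [Set.mem_ofPred_eq, Set.mem_sdiff, Set.mem_singleton_iff, SetLike.mem_coe, Set.mem_toFinset,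
      hstab, Subgroup.mem_inf, mem_stabilizer_iff]
    constructor
    · rintro ⟨h1, h2, c, ⟨hcC, -⟩, hcc⟩
      exact ⟨⟨h1, hcc C₀ hC₀ hcC⟩, h2⟩
    · rintro ⟨⟨h1, h3⟩, h2⟩
      obtain ⟨c, hcB, hcc⟩ := hc' x h1 h2
      exact ⟨h1, h2, c, ⟨((hcc C₀ hC₀).1 h3).resolve_left hC₀ne, hcB⟩, centre_of_iff hcc⟩
  obtain ⟨a, ha⟩ := hZpow (Z c₀) fun x hx => hx.1
  obtain ⟨e, he⟩ := hZpow M' le_rfl
  obtain ⟨d, hd⟩ := hZpow stab inf_le_left
  rw [← hz] at ha
  have ha0 : a ≠ 0 := fun h => by rw [h, pow_zero] at ha; omega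
  have hdvd : ∀ N w, s ^ w = N * (z - 1) + 1 → a ∣ w := fun N w h => by
    have h1 := Nat.pow_sub_one_gcd_pow_sub_one s a w
    rw [h, Nat.add_sub_cancel, ← ha, Nat.gcd_mul_left_right] at h1
    have hpos : ∀ t, 0 < s ^ t := fun t => pow_pos hs.pos t
    have h2 : s ^ a = s ^ Nat.gcd a w := by
      have := hpos a; have := hpos (Nat.gcd a w); omega
    rw [Nat.pow_right_injective hs.two_le h2]
    exact Nat.gcd_dvd_right a w
  obtain ⟨n, rfl⟩ := hdvd D.k e (by rw [← he, hk])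
  obtain ⟨m, rfl⟩ := hdvd D.lam d (by rw [← hd, hlam])
  rw [pow_mul, ← ha] at he hd
  have hi : (orbit M' C₀).ncard * z ^ m = z ^ n := by
    rw [← he, ← hd, ← S'.ncard_orbit_mul_stab (C := C₀)]
    congr 1
    rw [hstab]
    refine Nat.card_congr
      { toFun := fun w => ⟨⟨w.1, w.2.1⟩, w.2.2⟩
        invFun := fun w => ⟨w.1.1, w.1.2, w.2⟩
        left_inv := fun w => rfl
        right_inv := fun w => rfl }
  have hi1 : 1 < (orbit M' C₀).ncard := S'.one_lt_orbit hC₀ hC₀ne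
  have hmn : m < n := by
    by_contra h
    have h1 : z ^ n ≤ z ^ m := Nat.pow_le_pow_right (by omega) (by omega)
    have := pow_pos (show 0 < z by omega) m
    nlinarith
  obtain ⟨j, rfl⟩ : ∃ j, n = m + (j + 1) := ⟨n - m - 1, by omega⟩
  have hij : (orbit M' C₀).ncard = z ^ (j + 1) := by
    rw [pow_add, mul_comm (z ^ m)] at hi
    exact Nat.eq_of_mul_eq_mul_right (pow_pos (show 0 < z by omega) m) hi
  have hdk : z ^ (j + 1) ∣ D.k - 1 := by
    rw [← hij]
    let T : Finset (Set Ω) := Finset.univ.filter fun C => C ∈ D.blocks ∧ C ≠ D.B ∧ c₀ ∈ C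
    have hT : T.card + 1 = D.k := by
      rw [← D.deg c₀, ← Set.ncard_coe_finset, show (T : Set (Set Ω)) = {C ∈ D.blocks | c₀ ∈ C} \ {D.B} by
          ext C
          simp only [T, Finset.coe_filter, Finset.mem_univ, true_and, Set.mem_ofPred_eq, Set.mem_sdiff,
            Set.mem_singleton_iff]
          tauto,
        Set.ncard_sdiff_singleton_add_one
          (show D.B ∈ {C ∈ D.blocks | c₀ ∈ C} from ⟨D.base_mem, hc₀B⟩) (Set.toFinite _)]
    rw [← hT, Nat.add_sub_cancel, Finset.card_eq_sum_card_image (fun C => orbit M' C) T]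
    refine Finset.dvd_sum fun O hO => ?_
    obtain ⟨C, hC, rfl⟩ := Finset.mem_image.1 hO
    obtain ⟨-, hCb, hCne, hCc⟩ := Finset.mem_filter.1 hC
    rw [← S'.ncard_orbit_eq hCb hC₀ hCne hC₀ne, ← Set.ncard_coe_finset]
    refine dvd_of_eq (congrArg Set.ncard ?_)
    ext E
    simp only [Finset.coe_filter, Set.mem_ofPred_eq, orbit_eq_iff]
    refine ⟨fun h => ?_, fun h => h.2⟩
    obtain ⟨h1, h2, h3⟩ := S'.orbit_sub hCb hCne h
    exact ⟨by simp [T, h1, h2, ((Set.ext_iff.1 h3 c₀).2 ⟨hCc, hc₀B⟩).1], h⟩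
  rw [he] at hk
  rw [hd] at hlam
  clear_value z
  obtain ⟨w, rfl⟩ : ∃ w, z = w + 2 := ⟨z - 2, by omega⟩
  rw [show w + 2 - 1 = w + 1 by omega] at hk hlam
  have hk2 := D.two_le
  have hj : j = 0 := by
    by_contra h
    obtain ⟨r, hr⟩ := (pow_dvd_pow (w + 2) (show 2 ≤ j + 1 by omega)).trans hdk
    rw [show D.k = (w + 2) ^ 2 * r + 1 by omega] at hk
    have h2 : (w + 2) ^ 2 ∣ ((w + 2) ^ 2 * r + 1) * (w + 1) + 1 := by
      rw [hk]; exact pow_dvd_pow _ (by omega)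
    rw [show ((w + 2) ^ 2 * r + 1) * (w + 1) + 1 = (w + 2) ^ 2 * (r * (w + 1)) + (w + 2) by ring,
      Nat.dvd_add_right (dvd_mul_right _ _)] at h2
    have := Nat.le_of_dvd (by omega) h2
    nlinarith
  subst hj
  have hm : m ≠ 0 := by
    rintro rfl
    rw [pow_zero] at hlam
    have := D.lam_pos
    nlinarith
  have hkl : D.k = D.lam * (w + 2) + 1 := by
    have : D.k * (w + 1) = (D.lam * (w + 2) + 1) * (w + 1) := by
      have h1 : (w + 2) ^ (m + (0 + 1)) = (w + 2) ^ m * (w + 2) := by rw [pow_succ]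
      rw [h1, ← hlam] at hk
      nlinarith
    exact Nat.eq_of_mul_eq_mul_right (by omega) this
  have hsig : D.k = D.lam + (w + 2) ^ m := by rw [← hlam, hkl]; ring
  refine ⟨{
    toSemireg := S'
    p := s
    hp := hs
    comm := fun x hx y hy => S.commute_of_order hc hx.1 hx.2 hy.1 hy.2
    exponent := fun x hx => hx.2
    z := w + 2
    n := m + (0 + 1)
    one_lt_z := by omega
    two_le_n := by omega
    card_M := he
    card_off := ?_
    k_eq := by rw [show w + 2 - 1 = w + 1 by omega]; exact hk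
    lam_eq := by rw [show w + 2 - 1 = w + 1 by omega, show m + (0 + 1) - 1 = m by omega]; exact hlam
    sigma_eq := by rw [show m + (0 + 1) - 1 = m by omega]; exact hsig
    centre := hc'
    card_centre := fun c hcB => by rw [← hzeq c hcB]; exact (Nat.card_coe_set_eq _).symm }⟩
  have hp := D.param
  have h2 := D.add_two_le
  obtain ⟨u, hu⟩ : ∃ u, Nat.card Ω = u + 1 := ⟨Nat.card Ω - 1, by omega⟩
  obtain ⟨k', hk'⟩ : ∃ k', D.k = k' + 1 := ⟨D.k - 1, by omega⟩
  rw [hu, hk', Nat.add_sub_cancel, Nat.add_sub_cancel] at hp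
  have hk'' : k' = D.lam * (w + 2) := by omega
  have h3 : D.lam * u = D.lam * ((k' + 1) * (w + 2)) := by rw [hp, hk'']; ring
  have h4 := Nat.eq_of_mul_eq_mul_left D.lam_pos h3
  rw [hu, h4, hk', pow_succ]
  have : (k' + 1) * (w + 2) = k' + (w + 2) ^ m * (w + 2) := by
    rw [hk'', ← hlam]; ring
  rw [show (0 + 1) = 1 from rfl] at *
  omega

end Semireg

end CfsgLib.Ito
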