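import Cfsg.Agent.Lib.ItoTwo.Design
import Cfsg.Agent.Lib.ItoTwo.Semireg
import Cfsg.Agent.Lib.ItoTwo.Transl
import Cfsg.Agent.Lib.ItoTwo.Model
import Cfsg.Agent.Lib.ItoTwo.PSL

/-!
# Ito's theorem on doubly transitive groups with a subgroup of index equal to the degree
-/

set_option autoImplicit false

open scoped Pointwise

namespace CfsgLib.Ito

theorem card_points_eq {v k z n : ℕ} (hz : 1 < z) (hv : v = k + z ^ n) (hk : k * (z - 1) + 1 = z ^ n) :
    v = (z ^ (n + 1) - 1) / (z - 1) := by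
  obtain ⟨w, rfl⟩ : ∃ w, z = w + 2 := ⟨z - 2, by omega⟩
  rw [show w + 2 - 1 = w + 1 by omega] at hk ⊢
  have h : (w + 2) ^ (n + 1) = (w + 1) * v + 1 := by
    rw [hv, pow_succ, ← hk]; ring
  rw [h, Nat.add_sub_cancel, Nat.mul_div_cancel_left _ (by omega)]

/-- Ito: if `H` is unfaithful on one of its orbits then `G` contains `PSL` as a normal subgroup. -/
theorem ito_psl.{u, v} {G : Type u} {Ω : Type v} [Group G] [Finite G] [MulAction G Ω] [FaithfulSMul G Ω]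
    [Finite Ω] (h2 : MulAction.IsMultiplyPretransitive G Ω 2) (H : Subgroup G)
    (hidx : H.index = Nat.card Ω) (hnt : ¬ MulAction.IsPretransitive H Ω)
    (hfix : ∀ a : Ω, ∃ h : H, h • a ≠ a)
    (hunf : ∃ a : Ω, ∃ h : H, h ≠ 1 ∧ ∀ b ∈ MulAction.orbit H a, h • b = b) :
    ∃ (m : ℕ) (F : Type) (_ : Field F) (_ : Fintype F), 2 ≤ m ∧
      Nat.card Ω = (Fintype.card F ^ (m + 1) - 1) / (Fintype.card F - 1) ∧
      ∃ N : Subgroup G, N.Normal ∧
        Nonempty (N ≃* Matrix.ProjectiveSpecialLinearGroup (Fin (m + 1)) F) ∧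
        Subgroup.centralizer (N : Set G) = ⊥ := by
  obtain ⟨a, h, hh1, hhB⟩ := hunf
  obtain ⟨D, hDB, -⟩ := exists_des h2 H hidx hnt hfix a
  obtain ⟨S⟩ := exists_semireg D ⟨(h : G), fun e => hh1 (Subtype.ext e), fun b hb => hhB b (hDB ▸ hb)⟩
  obtain ⟨T⟩ := S.exists_transl
  obtain ⟨K, instK, finK, hK, ⟨P⟩⟩ := T.exists_model
  refine ⟨T.n, K, instK, finK, T.two_le_n, ?_, T.psl hK P⟩
  rw [hK]
  exact card_points_eq T.one_lt_z T.card_off T.k_eq

end CfsgLib.Ito
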