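import Cfsg.Agent.Lib.ItoTwo.Defs
import Mathlib

/-!
# The translation group as a vector space with a spread of centres

For a translation group `M` with axis `B` and a point `o` off `B` the blocks through `o` correspond
to the stabilisers `st C`; every functional on `M` kills exactly one of them, so a subgroup which is
a union of centre groups is an intersection of such stabilisers.
-/

set_option autoImplicit false
set_option linter.style.haveILetI false
set_option linter.unusedSectionVars false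

open scoped Pointwise

namespace CfsgLib.Ito

universe u v

/-! ### Elementary abelian groups -/

theorem card_hom_zmod {p : ℕ} [Fact p.Prime] {A : Type*} [AddCommGroup A] [Finite A]
    (hA : ∀ x : A, p • x = 0) : Nat.card (A →+ ZMod p) = Nat.card A := by
  haveI : Module (ZMod p) A := AddCommGroup.zmodModule hA
  have e : (A →+ ZMod p) ≃ Module.Dual (ZMod p) A :=
    { toFun := fun f => f.toZModLinearMap p
      invFun := fun g => g.toAddMonoidHom
      left_inv := fun _ => rfl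
      right_inv := fun _ => rfl }
  haveI : Module.Finite (ZMod p) A := Module.Finite.of_finite
  rw [Nat.card_congr e, Module.natCard_eq_pow_finrank (K := ZMod p) (V := Module.Dual (ZMod p) A),
    Module.natCard_eq_pow_finrank (K := ZMod p) (V := A), Subspace.dual_finrank_eq]

theorem exists_hom_ne {p : ℕ} [Fact p.Prime] {A : Type*} [AddCommGroup A]
    (hA : ∀ x : A, p • x = 0) {x : A} (hx : x ≠ 0) : ∃ f : A →+ ZMod p, f x ≠ 0 := by
  haveI : Module (ZMod p) A := AddCommGroup.zmodModule hA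
  by_contra h
  push Not at h
  let b := Module.Basis.ofVectorSpace (ZMod p) A
  refine hx (b.repr.map_eq_zero_iff.1 (Finsupp.ext fun i => ?_))
  exact h (b.coord i).toAddMonoidHom

/-- the homomorphisms killing a subgroup are those on the quotient -/
noncomputable def killEquiv {p : ℕ} {A : Type*} [AddCommGroup A] (U : AddSubgroup A) :
    {f : A →+ ZMod p // U ≤ f.ker} ≃ (A ⧸ U →+ ZMod p) where
  toFun f := QuotientAddGroup.lift U f.1 f.2
  invFun g := ⟨g.comp (QuotientAddGroup.mk' U), fun x hx => by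
    simp [(QuotientAddGroup.eq_zero_iff x).2 hx]⟩
  left_inv f := by
    apply Subtype.ext
    ext x
    simp
  right_inv g := by
    ext x
    simp

theorem card_killing {p : ℕ} [Fact p.Prime] {A : Type*} [AddCommGroup A] [Finite A]
    (hA : ∀ x : A, p • x = 0) (U : AddSubgroup A) :
    Nat.card {f : A →+ ZMod p // U ≤ f.ker} * Nat.card U = Nat.card A := by
  rw [Nat.card_congr (killEquiv U), card_hom_zmod]
  · exact (AddSubgroup.card_eq_card_quotient_mul_card_addSubgroup U).symm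
  · intro q
    induction q using QuotientAddGroup.induction_on with
    | H a => rw [← QuotientAddGroup.mk_nsmul, hA, QuotientAddGroup.mk_zero]

theorem exists_killing_ne {p : ℕ} [Fact p.Prime] {A : Type*} [AddCommGroup A]
    (hA : ∀ x : A, p • x = 0) {U : AddSubgroup A} {x : A} (hx : x ∉ U) :
    ∃ f : A →+ ZMod p, U ≤ f.ker ∧ f x ≠ 0 := by
  have hq : ∀ q : A ⧸ U, p • q = 0 := by
    intro q
    induction q using QuotientAddGroup.induction_on with
    | H a => rw [← QuotientAddGroup.mk_nsmul, hA, QuotientAddGroup.mk_zero]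
  obtain ⟨g, hg⟩ := exists_hom_ne hq (x := (x : A ⧸ U))
    (fun h => hx ((QuotientAddGroup.eq_zero_iff x).1 h))
  exact ⟨g.comp (QuotientAddGroup.mk' U),
    fun y hy => by simp [(QuotientAddGroup.eq_zero_iff y).2 hy], hg⟩

theorem card_sup_mul_card_inf {A : Type*} [AddCommGroup A] [Finite A] (H K : AddSubgroup A) :
    Nat.card (H ⊔ K : AddSubgroup A) * Nat.card (H ⊓ K : AddSubgroup A) =
      Nat.card H * Nat.card K := by
  let φ : H × K →+ A := H.subtype.coprod K.subtype
  have hr : φ.range = H ⊔ K := by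
    ext x
    simp only [AddMonoidHom.mem_range, AddSubgroup.mem_sup, φ]
    exact ⟨fun ⟨⟨a, b⟩, h⟩ => ⟨a, a.2, b, b.2, by simpa using h⟩,
      fun ⟨a, ha, b, hb, h⟩ => ⟨(⟨a, ha⟩, ⟨b, hb⟩), by simpa using h⟩⟩
  have hsum : ∀ x : φ.ker, (x.1.1 : A) + x.1.2 = 0 := fun x => x.2
  have hk : Nat.card φ.ker = Nat.card (H ⊓ K : AddSubgroup A) := by
    have hmem : ∀ x : φ.ker, (x.1.1 : A) ∈ H ⊓ K := fun x => by
      have h := hsum x
      exact ⟨x.1.1.2, (eq_neg_of_add_eq_zero_left h).symm ▸ K.neg_mem x.1.2.2⟩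
    refine Nat.card_congr (Equiv.ofBijective (fun x => ⟨x.1.1, hmem x⟩) ⟨fun x y e => ?_, ?_⟩)
    · have e1 : (x.1.1 : A) = y.1.1 := congrArg (fun q : ↥(H ⊓ K) => (q : A)) e
      have hx := hsum x
      have hy := hsum y
      refine Subtype.ext (Prod.ext (Subtype.ext e1) (Subtype.ext ?_))
      rw [eq_neg_of_add_eq_zero_right hx, eq_neg_of_add_eq_zero_right hy, e1]
    · rintro ⟨a, haH, haK⟩
      exact ⟨⟨(⟨a, haH⟩, ⟨-a, K.neg_mem haK⟩), by simp [φ, AddMonoidHom.mem_ker]⟩, rfl⟩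
  rw [← hr, ← hk, ← Nat.card_prod H K, ← AddSubgroup.index_ker φ, mul_comm]
  exact φ.ker.card_mul_index

/-! ### The design -/

variable {G : Type u} {Ω : Type v} [Group G] [MulAction G Ω] {D : Des G Ω}

theorem Des.axis_mem (D : Des G Ω) : D.B ∈ D.blocks := MulAction.mem_orbit_self _

theorem Des.smul_blocks (D : Des G Ω) (g : G) {C : Set Ω} (hC : C ∈ D.blocks) : g • C ∈ D.blocks :=
  MulAction.mem_orbit_of_mem_orbit g hC

theorem Des.ncard_of_mem (D : Des G Ω) {C : Set Ω} (hC : C ∈ D.blocks) : C.ncard = D.k := by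
  obtain ⟨g, rfl⟩ := hC
  exact (Set.ncard_smul_set g D.B).trans D.card_B

theorem Des.axis_finite (D : Des G Ω) : D.B.Finite :=
  Set.finite_of_ncard_pos (by rw [D.card_B]; have := D.two_le; omega)

theorem Des.exists_notMem_axis [Finite Ω] (D : Des G Ω) : ∃ o, o ∉ D.B := by
  by_contra h
  push Not at h
  have := D.card_B
  rw [Set.eq_univ_of_forall h, Set.ncard_univ] at this
  have := D.add_two_le
  omega

namespace Transl

variable (T : Transl D)

/-- the translation group written additively -/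
abbrev V : Type u := Additive T.M

/-- the translation group is commutative -/
@[reducible] def commGroup : CommGroup T.M :=
  { (inferInstance : Group T.M) with
    mul_comm := fun x y => Subtype.ext (T.comm x x.2 y y.2) }

/-- the additive structure of the translation group -/
@[reducible] def addCommGroup : AddCommGroup T.V :=
  letI := T.commGroup
  inferInstance

attribute [local instance] addCommGroup

/-- the translation of a point -/
def act (x : T.V) (P : Ω) : Ω := ((Additive.toMul x : T.M) : G) • P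

theorem act_zero (P : Ω) : T.act 0 P = P := one_smul G P

theorem act_add (x y : T.V) (P : Ω) : T.act (x + y) P = T.act x (T.act y P) :=
  mul_smul ((Additive.toMul x : T.M) : G) _ P

theorem act_B (x : T.V) {P : Ω} (hP : P ∈ D.B) : T.act x P = P :=
  T.fix_B _ (Additive.toMul x).2 P hP

theorem act_notMem (x : T.V) {P : Ω} (hP : P ∉ D.B) : T.act x P ∉ D.B := fun h => by
  refine hP ?_
  have h1 := T.act_B (-x) h
  rw [← T.act_add, neg_add_cancel, T.act_zero] at h1
  exact h1.symm ▸ h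

theorem act_inj {P : Ω} (hP : P ∉ D.B) {x y : T.V} (h : T.act x P = T.act y P) : x = y := by
  have h1 : T.act (-y + x) P = P := by
    rw [T.act_add, h, ← T.act_add, neg_add_cancel, T.act_zero]
  have h2 : ((Additive.toMul (-y + x) : T.M) : G) = 1 :=
    T.free _ (Additive.toMul (-y + x)).2 P hP h1
  have h3 : -y + x = 0 := Additive.toMul.injective (Subtype.ext h2)
  rwa [neg_add_eq_zero, eq_comm] at h3

theorem nsmul_eq_zero (x : T.V) : T.p • x = 0 :=
  Additive.toMul.injective (Subtype.ext (T.exponent _ (Additive.toMul x).2))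

theorem card_V : Nat.card T.V = T.z ^ T.n := T.card_M

theorem finite_V : Finite T.V :=
  Nat.finite_of_card_ne_zero (by
    rw [T.card_V]; exact pow_ne_zero _ (Nat.ne_of_gt (zero_lt_one.trans T.one_lt_z)))

theorem exists_act_eq [Finite Ω] {o : Ω} (ho : o ∉ D.B) {P : Ω} (hP : P ∉ D.B) :
    ∃ x : T.V, T.act x o = P := by
  haveI := T.finite_V
  have h : Set.range (fun x => T.act x o) = D.Bᶜ := by
    refine Set.eq_of_subset_of_ncard_le (by rintro _ ⟨x, rfl⟩; exact T.act_notMem x ho) ?_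
      (Set.toFinite _)
    rw [← Set.image_univ, Set.ncard_image_of_injective _ (fun x y e => T.act_inj ho e),
      Set.ncard_univ, T.card_V, Set.ncard_compl, D.card_B, T.card_off]
    omega
  rw [← Set.mem_compl_iff, ← h] at hP
  exact hP

/-- the translations fixing a block -/
def st (C : Set Ω) : AddSubgroup T.V where
  carrier := {x | ((Additive.toMul x : T.M) : G) • C = C}
  zero_mem' := one_smul G C
  add_mem' {x y} hx hy := by
    show (((Additive.toMul x : T.M) : G) * ((Additive.toMul y : T.M) : G)) • C = C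
    rw [mul_smul, hy, hx]
  neg_mem' {x} hx := by
    show (((Additive.toMul x : T.M) : G)⁻¹) • C = C
    rw [inv_smul_eq_iff]
    exact hx.symm

theorem mem_st {C : Set Ω} {x : T.V} :
    x ∈ T.st C ↔ ((Additive.toMul x : T.M) : G) • C = C := Iff.rfl

/-- the translations with a given centre, and zero -/
def comp (c : Ω) : AddSubgroup T.V where
  carrier := {x | D.Centre ((Additive.toMul x : T.M) : G) c}
  zero_mem' C _ _ := one_smul G C
  add_mem' {x y} hx hy C hC hc := (T.st C).add_mem (hx C hC hc) (hy C hC hc)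
  neg_mem' {x} hx C hC hc := (T.st C).neg_mem (hx C hC hc)

theorem mem_comp {c : Ω} {x : T.V} :
    x ∈ T.comp c ↔ D.Centre ((Additive.toMul x : T.M) : G) c := Iff.rfl

theorem comp_le_st {c : Ω} {C : Set Ω} (hC : C ∈ D.blocks) (hc : c ∈ C) : T.comp c ≤ T.st C :=
  fun _ hx => hx C hC hc

theorem card_comp {c : Ω} (hc : c ∈ D.B) : Nat.card (T.comp c) = T.z := by
  rw [← T.card_centre c hc, ← Nat.card_coe_set_eq]
  exact Nat.card_congr
    { toFun := fun x => ⟨((Additive.toMul x.1 : T.M) : G), (Additive.toMul x.1).2, x.2⟩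
      invFun := fun g => ⟨Additive.ofMul ⟨g.1, g.2.1⟩, g.2.2⟩
      left_inv := fun _ => rfl
      right_inv := fun _ => rfl }

theorem exists_block_through [Finite Ω] {c o : Ω} (hc : c ∈ D.B) (ho : o ∉ D.B) :
    ∃ C ∈ D.blocks, o ∈ C ∧ c ∈ C := by
  have h : c ≠ o := fun e => ho (e ▸ hc)
  obtain ⟨C, hC, h1, h2⟩ := Set.nonempty_of_ncard_ne_zero
    (D.join c o h ▸ Nat.ne_of_gt D.lam_pos : {C ∈ D.blocks | c ∈ C ∧ o ∈ C}.ncard ≠ 0)
  exact ⟨C, hC, h2, h1⟩

theorem comp_unique [Finite Ω] {x : T.V} (hx : x ≠ 0) :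
    ∃ c ∈ D.B, x ∈ T.comp c ∧ (∀ c' ∈ D.B, x ∈ T.comp c' → c' = c) ∧
      ∀ C ∈ D.blocks, C ≠ D.B → (x ∈ T.st C ↔ c ∈ C) := by
  have hx1 : ((Additive.toMul x : T.M) : G) ≠ 1 := fun e =>
    hx (Additive.toMul.injective (Subtype.ext e))
  obtain ⟨c, hc, h⟩ := T.centre _ (Additive.toMul x).2 hx1
  refine ⟨c, hc, fun C hC hcC => (h C hC).2 (Or.inr hcC), fun c' hc' hx' => ?_,
    fun C hC hne => ⟨fun hm => ((h C hC).1 hm).resolve_left hne, fun hm => (h C hC).2 (Or.inr hm)⟩⟩
  by_contra hne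
  have hsub : {C ∈ D.blocks | c' ∈ C} ⊆ {C ∈ D.blocks | c' ∈ C ∧ c ∈ C} := by
    rintro C ⟨hC, hc'C⟩
    refine ⟨hC, hc'C, ?_⟩
    rcases (h C hC).1 (hx' C hC hc'C) with rfl | h'
    · exact hc
    · exact h'
  have h1 := Set.ncard_le_ncard hsub (Set.toFinite _)
  rw [D.deg, D.join c' c hne] at h1
  exact absurd D.lam_lt (not_lt.2 h1)

theorem existsUnique_comp [Finite Ω] {x : T.V} (hx : x ≠ 0) :
    ∃! c : D.B, x ∈ T.comp c.1 := by
  obtain ⟨c, hc, h1, h2, -⟩ := T.comp_unique hx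
  exact ⟨⟨c, hc⟩, h1, fun c' hc' => Subtype.ext (h2 c' c'.2 hc')⟩

theorem eq_of_mem_comp [Finite Ω] {x : T.V} (hx : x ≠ 0) {c c' : Ω} (hc : c ∈ D.B)
    (hc' : c' ∈ D.B) (h : x ∈ T.comp c) (h' : x ∈ T.comp c') : c = c' := by
  obtain ⟨d, -, -, hu, -⟩ := T.comp_unique hx
  rw [hu c hc h, hu c' hc' h']

theorem mem_of_mem_st [Finite Ω] {x : T.V} (hx : x ≠ 0) {c : Ω} (hc : c ∈ D.B)
    (h : x ∈ T.comp c) {C : Set Ω} (hC : C ∈ D.blocks) (hne : C ≠ D.B) (hs : x ∈ T.st C) :
    c ∈ C := by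
  obtain ⟨d, hd, hd', -, h3⟩ := T.comp_unique hx
  rw [T.eq_of_mem_comp hx hc hd h hd']
  exact (h3 C hC hne).1 hs

theorem exists_ne_zero [Finite Ω] {c : Ω} (hc : c ∈ D.B) : ∃ x ∈ T.comp c, x ≠ 0 := by
  haveI := T.finite_V
  by_contra h
  push Not at h
  have h1 := T.card_comp hc
  rw [(AddSubgroup.eq_bot_iff_forall _).2 h, AddSubgroup.card_bot] at h1
  exact absurd T.one_lt_z (by omega)

/-- a subgroup made of centre groups has order `1 + (z - 1) · #centres` -/
theorem card_union [Finite Ω] (U : AddSubgroup T.V)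
    (hU : ∀ c ∈ D.B, ∀ x ∈ U, x ≠ 0 → x ∈ T.comp c → T.comp c ≤ U) :
    Nat.card U = 1 + {c ∈ D.B | T.comp c ≤ U}.ncard * (T.z - 1) := by
  classical
  haveI := T.finite_V
  haveI : Fintype T.V := Fintype.ofFinite _
  haveI : Fintype Ω := Fintype.ofFinite _
  let s : Finset Ω := Finset.univ.filter fun c => c ∈ D.B ∧ T.comp c ≤ U
  let f : Ω → Finset T.V := fun c => (Finset.univ.filter fun x => x ∈ T.comp c).erase 0
  have hs : {c ∈ D.B | T.comp c ≤ U}.ncard = s.card := by
    rw [← Set.ncard_coe_finset]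
    congr 1
    ext c
    simp [s]
  have hf : ∀ c ∈ s, (f c).card = T.z - 1 := fun c hc => by
    rw [Finset.card_erase_of_mem (by simp), ← Fintype.card_subtype, ← Nat.card_eq_fintype_card,
      ← T.card_comp (Finset.mem_filter.1 hc).2.1]
  have hd : (s : Set Ω).PairwiseDisjoint f := by
    intro c hc c' hc' hne
    rw [Function.onFun, Finset.disjoint_left]
    intro x hx hx'
    simp only [f, Finset.mem_erase, Finset.mem_filter] at hx hx'
    exact hne (T.eq_of_mem_comp hx.1 (Finset.mem_filter.1 hc).2.1 (Finset.mem_filter.1 hc').2.1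
      hx.2.2 hx'.2.2)
  have he : (Finset.univ.filter fun x => x ∈ U).erase 0 = s.biUnion f := by
    ext x
    simp only [Finset.mem_erase, Finset.mem_filter, Finset.mem_univ, true_and, Finset.mem_biUnion,
      s, f]
    refine ⟨fun ⟨h0, hx⟩ => ?_, fun ⟨c, ⟨_, hc⟩, h0, hx⟩ => ⟨h0, hc hx⟩⟩
    obtain ⟨c, hc, hxc, -, -⟩ := T.comp_unique h0
    exact ⟨c, ⟨hc, hU c hc x hx h0 hxc⟩, h0, hxc⟩
  have h1 := Finset.card_erase_add_one
    (show (0 : T.V) ∈ Finset.univ.filter fun x => x ∈ U by simp)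
  rw [he, Finset.card_biUnion hd, Finset.sum_congr rfl hf, Finset.sum_const, smul_eq_mul] at h1
  rw [hs, Nat.card_eq_fintype_card, Fintype.card_subtype, ← h1, add_comm]

theorem st_union [Finite Ω] {C : Set Ω} (hC : C ∈ D.blocks) (hne : C ≠ D.B) :
    ∀ c ∈ D.B, ∀ x ∈ T.st C, x ≠ 0 → x ∈ T.comp c → T.comp c ≤ T.st C :=
  fun _ hc _ hx h0 hxc => T.comp_le_st hC (T.mem_of_mem_st h0 hc hxc hC hne hx)

theorem centres_st [Finite Ω] {C : Set Ω} (hC : C ∈ D.blocks) (hne : C ≠ D.B) :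
    {c ∈ D.B | T.comp c ≤ T.st C} = D.B ∩ C := by
  ext c
  refine ⟨fun ⟨hc, h⟩ => ⟨hc, ?_⟩, fun ⟨hc, h⟩ => ⟨hc, T.comp_le_st hC h⟩⟩
  obtain ⟨x, hx, h0⟩ := T.exists_ne_zero hc
  exact T.mem_of_mem_st h0 hc hx hC hne (h hx)

theorem card_st [Finite Ω] {C : Set Ω} (hC : C ∈ D.blocks) (hne : C ≠ D.B) :
    Nat.card (T.st C) = T.z ^ (T.n - 1) := by
  rw [T.card_union _ (T.st_union hC hne), T.centres_st hC hne, D.meet _ D.axis_mem C hC hne.symm,
    add_comm, T.lam_eq]

theorem ne_B_of_off {C : Set Ω} {o : Ω} (ho : o ∉ D.B) (hoC : o ∈ C) : C ≠ D.B :=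
  fun h => ho (h ▸ hoC)

theorem diff_eq [Finite Ω] {C : Set Ω} (hC : C ∈ D.blocks) {o : Ω} (ho : o ∉ D.B) (hoC : o ∈ C) :
    C \ D.B = (fun x => T.act x o) '' (T.st C : Set T.V) := by
  haveI := T.finite_V
  refine (Set.eq_of_subset_of_ncard_le ?_ ?_ (Set.toFinite _)).symm
  · rintro _ ⟨x, hx, rfl⟩
    exact ⟨(T.mem_st.1 hx) ▸ Set.smul_mem_smul_set hoC, T.act_notMem x ho⟩
  · rw [Set.ncard_image_of_injective _ (fun x y e => T.act_inj ho e),
      ← Nat.card_coe_set_eq (T.st C : Set T.V), SetLike.coe_sort_coe, T.card_st hC (ne_B_of_off ho hoC)]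
    have h := Set.ncard_inter_add_ncard_sdiff_eq_ncard C D.B (Set.toFinite _)
    rw [D.meet C hC _ D.axis_mem (ne_B_of_off ho hoC), D.ncard_of_mem hC, T.sigma_eq] at h
    omega

theorem act_mem_iff [Finite Ω] {C : Set Ω} (hC : C ∈ D.blocks) {o : Ω} (ho : o ∉ D.B)
    (hoC : o ∈ C) {x : T.V} : T.act x o ∈ C ↔ x ∈ T.st C := by
  refine ⟨fun h => ?_, fun h => (T.mem_st.1 h) ▸ Set.smul_mem_smul_set hoC⟩
  have h1 : T.act x o ∈ C \ D.B := ⟨h, T.act_notMem x ho⟩
  rw [T.diff_eq hC ho hoC] at h1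
  obtain ⟨y, hy, he⟩ := h1
  rwa [← T.act_inj ho he]

theorem st_sup_eq_top [Finite Ω] {C C' : Set Ω} (hC : C ∈ D.blocks) (hC' : C' ∈ D.blocks)
    {o : Ω} (ho : o ∉ D.B) (hoC : o ∈ C) (hoC' : o ∈ C') (hne : C ≠ C') :
    T.st C ⊔ T.st C' = ⊤ := by
  haveI := T.finite_V
  have hB := ne_B_of_off ho hoC
  have hB' := ne_B_of_off ho hoC'
  set t := (D.B ∩ C ∩ C').ncard with ht
  set c := Nat.card (T.st C ⊓ T.st C' : AddSubgroup T.V) with hc
  have hcent : {d ∈ D.B | T.comp d ≤ T.st C ⊓ T.st C'} = D.B ∩ C ∩ C' := by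
    have h1 := T.centres_st hC hB
    have h2 := T.centres_st hC' hB'
    ext d
    simp only [Set.ext_iff, Set.mem_ofPred_eq, Set.mem_inter_iff] at h1 h2
    simp only [Set.mem_ofPred_eq, Set.mem_inter_iff, le_inf_iff]
    specialize h1 d
    specialize h2 d
    tauto
  have e1 : c = 1 + t * (T.z - 1) := by
    rw [hc, T.card_union _ (fun d hd x hx h0 hxd => le_inf
      (T.st_union hC hB d hd x hx.1 h0 hxd) (T.st_union hC' hB' d hd x hx.2 h0 hxd)), hcent]
  have e2 : D.lam = t + c := by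
    have hd : (C ∩ C') \ D.B =
        (fun x => T.act x o) '' ((T.st C ⊓ T.st C' : AddSubgroup T.V) : Set T.V) := by
      rw [AddSubgroup.coe_inf, Set.image_inter (fun x y e => T.act_inj ho e), ← T.diff_eq hC ho hoC,
        ← T.diff_eq hC' ho hoC']
      ext P
      simp only [Set.mem_sdiff, Set.mem_inter_iff]
      tauto
    have h := Set.ncard_inter_add_ncard_sdiff_eq_ncard (C ∩ C') D.B (Set.toFinite _)
    rw [hd, Set.ncard_image_of_injective _ (fun x y e => T.act_inj ho e), D.meet C hC C' hC' hne,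
      ← Nat.card_coe_set_eq ((T.st C ⊓ T.st C' : AddSubgroup T.V) : Set T.V),
      SetLike.coe_sort_coe, ← hc] at h
    rw [← h, ht, Set.inter_assoc D.B, Set.inter_comm D.B]
  have e3 : T.z * c = T.z ^ (T.n - 1) := by
    obtain ⟨w, hw⟩ : ∃ w, T.z = w + 1 := ⟨T.z - 1, by have := T.one_lt_z; omega⟩
    rw [← T.lam_eq, e2, hw, Nat.add_sub_cancel]
    rw [hw, Nat.add_sub_cancel] at e1
    rw [e1]
    ring
  have h := card_sup_mul_card_inf (T.st C) (T.st C')
  rw [T.card_st hC hB, T.card_st hC' hB', ← hc] at h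
  refine AddSubgroup.eq_top_of_card_eq _ ?_
  rw [T.card_V]
  have h4 : 0 < c := Nat.card_pos
  refine Nat.eq_of_mul_eq_mul_right h4 (h.trans ?_)
  calc T.z ^ (T.n - 1) * T.z ^ (T.n - 1) = T.z ^ (T.n - 1) * (T.z * c) := by rw [e3]
    _ = T.z ^ (T.n - 1 + 1) * c := by rw [pow_succ, mul_assoc]
    _ = T.z ^ T.n * c := by rw [show T.n - 1 + 1 = T.n by have := T.two_le_n; omega]

/-- every non-zero functional kills the stabiliser of a block through `o` -/
theorem exists_st_le_ker [Finite Ω] {o : Ω} (ho : o ∉ D.B) (f : T.V →+ ZMod T.p) (hf : f ≠ 0) :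
    ∃ C ∈ D.blocks, o ∈ C ∧ T.st C ≤ f.ker := by
  classical
  haveI := T.finite_V
  haveI : Fact T.p.Prime := ⟨T.hp⟩
  haveI : Finite (T.V →+ ZMod T.p) := Finite.of_injective _ DFunLike.coe_injective
  haveI : Fintype (T.V →+ ZMod T.p) := Fintype.ofFinite _
  haveI : Fintype (Set Ω) := Fintype.ofFinite _
  let s : Finset (Set Ω) := Finset.univ.filter fun C => C ∈ D.blocks ∧ o ∈ C
  let F : Set Ω → Finset (T.V →+ ZMod T.p) := fun C =>
    (Finset.univ.filter fun g => T.st C ≤ g.ker).erase 0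
  have hs : s.card = D.k := by
    rw [← D.deg o, ← Set.ncard_coe_finset]
    congr 1
    ext C
    simp [s]
  have hF : ∀ C ∈ s, (F C).card = T.z - 1 := fun C hC => by
    obtain ⟨hC1, hC2⟩ := (Finset.mem_filter.1 hC).2
    have h := card_killing T.nsmul_eq_zero (T.st C)
    rw [T.card_st hC1 (ne_B_of_off ho hC2), T.card_V] at h
    nth_rewrite 2 [show T.n = T.n - 1 + 1 by have := T.two_le_n; omega] at h
    rw [pow_succ, mul_comm (T.z ^ (T.n - 1))] at h
    have h' := Nat.eq_of_mul_eq_mul_right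
      (pow_pos (zero_lt_one.trans T.one_lt_z) _) h
    rw [Finset.card_erase_of_mem (by simp), ← Fintype.card_subtype, ← Nat.card_eq_fintype_card, h']
  have hd : (s : Set (Set Ω)).PairwiseDisjoint F := by
    intro C hC C' hC' hne
    rw [Function.onFun, Finset.disjoint_left]
    intro g hg hg'
    simp only [F, Finset.mem_erase, Finset.mem_filter] at hg hg'
    obtain ⟨hC1, hC2⟩ := (Finset.mem_filter.1 hC).2
    obtain ⟨hC1', hC2'⟩ := (Finset.mem_filter.1 hC').2
    refine hg.1 (AddMonoidHom.ext fun x => ?_)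
    have hle := sup_le hg.2.2 hg'.2.2
    rw [T.st_sup_eq_top hC1 hC1' ho hC2 hC2' hne] at hle
    exact hle (AddSubgroup.mem_top x)
  have htot : s.biUnion F = Finset.univ.erase 0 := by
    refine Finset.eq_of_subset_of_card_le (fun g hg => ?_) ?_
    · obtain ⟨C, -, hg⟩ := Finset.mem_biUnion.1 hg
      exact Finset.mem_erase.2 ⟨(Finset.mem_erase.1 hg).1, Finset.mem_univ _⟩
    · rw [Finset.card_biUnion hd, Finset.sum_congr rfl hF, Finset.sum_const, smul_eq_mul, hs,
        Finset.card_erase_of_mem (Finset.mem_univ _), Finset.card_univ, ← Nat.card_eq_fintype_card,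
        card_hom_zmod T.nsmul_eq_zero, T.card_V, ← T.k_eq, Nat.add_sub_cancel]
  have : f ∈ s.biUnion F := htot ▸ Finset.mem_erase.2 ⟨hf, Finset.mem_univ _⟩
  obtain ⟨C, hC, hg⟩ := Finset.mem_biUnion.1 this
  simp only [F, Finset.mem_erase, Finset.mem_filter] at hg
  exact ⟨C, (Finset.mem_filter.1 hC).2.1, (Finset.mem_filter.1 hC).2.2, hg.2.2⟩

/-- centre groups are separated from points outside their sum by blocks through `o` -/
theorem exists_separating [Finite Ω] {o : Ω} (ho : o ∉ D.B) {U : AddSubgroup T.V} {x : T.V}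
    (hx : x ∉ U) :
    ∃ C ∈ D.blocks, o ∈ C ∧ x ∉ T.st C ∧ ∀ c ∈ D.B, T.comp c ≤ U → c ∈ C := by
  haveI := T.finite_V
  haveI : Fact T.p.Prime := ⟨T.hp⟩
  obtain ⟨f, hUf, hfx⟩ := exists_killing_ne T.nsmul_eq_zero hx
  obtain ⟨C, hC, hoC, hle⟩ := T.exists_st_le_ker ho f (fun h => hfx (by simp [h]))
  refine ⟨C, hC, hoC, fun h => hfx (hle h), fun c hc hcU => ?_⟩
  by_contra hcC
  have hB := ne_B_of_off ho hoC
  have hinf : T.comp c ⊓ T.st C = ⊥ := by
    rw [AddSubgroup.eq_bot_iff_forall]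
    rintro y ⟨hy, hy'⟩
    by_contra h0
    exact hcC (T.mem_of_mem_st h0 hc hy hC hB hy')
  have h := card_sup_mul_card_inf (T.comp c) (T.st C)
  rw [hinf, AddSubgroup.card_bot, mul_one, T.card_comp hc, T.card_st hC hB, ← pow_succ',
    show T.n - 1 + 1 = T.n by have := T.two_le_n; omega, ← T.card_V] at h
  have hle' := sup_le (hcU.trans hUf) hle
  rw [AddSubgroup.eq_top_of_card_eq _ h] at hle'
  exact hfx (hle' (AddSubgroup.mem_top x))

end Transl

end CfsgLib.Ito
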