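import Cfsg.Agent.Lib.ItoTwo.ModelBase

/-!
# The closure and transvection properties of the spread of centres

Conjugates of translations fix their own block pointwise; those whose block passes through `o` and
whose centre lies on `B` normalise the translation group and act on it as transvections.
-/

set_option autoImplicit false
set_option linter.style.haveILetI false
set_option linter.unusedSectionVars false

open scoped Pointwise

namespace CfsgLib.Ito

universe u v

variable {G : Type u} {Ω : Type v} [Group G] [MulAction G Ω] {D : Des G Ω}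

theorem Des.smul_mem_axis (D : Des G Ω) {g : G} (hg : g • D.B = D.B) {P : Ω} :
    g • P ∈ D.B ↔ P ∈ D.B := by
  conv_lhs => rw [← hg]
  exact Set.smul_mem_smul_set_iff

namespace Transl

variable (T : Transl D)

attribute [local instance] addCommGroup

/-- conjugation by an element fixing the axis -/
def cj (g : G) (hg : g • D.B = D.B) : T.V ≃+ T.V where
  toFun x := Additive.ofMul
    ⟨g * ((Additive.toMul x : T.M) : G) * g⁻¹, T.normal g hg _ (Additive.toMul x).2⟩
  invFun x := Additive.ofMul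
    ⟨g⁻¹ * ((Additive.toMul x : T.M) : G) * g⁻¹⁻¹,
      T.normal g⁻¹ (by rw [inv_smul_eq_iff, hg]) _ (Additive.toMul x).2⟩
  left_inv x := Additive.toMul.injective (Subtype.ext (by
    show g⁻¹ * (g * ((Additive.toMul x : T.M) : G) * g⁻¹) * g⁻¹⁻¹ = _
    group))
  right_inv x := Additive.toMul.injective (Subtype.ext (by
    show g * (g⁻¹ * ((Additive.toMul x : T.M) : G) * g⁻¹⁻¹) * g⁻¹ = _
    group))
  map_add' x y := Additive.toMul.injective (Subtype.ext (by
    show g * (((Additive.toMul x : T.M) : G) * ((Additive.toMul y : T.M) : G)) * g⁻¹ =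
      (g * ((Additive.toMul x : T.M) : G) * g⁻¹) * (g * ((Additive.toMul y : T.M) : G) * g⁻¹)
    group))

theorem act_cj (g : G) (hg : g • D.B = D.B) (x : T.V) (P : Ω) :
    T.act (T.cj g hg x) (g • P) = g • T.act x P := by
  show (g * ((Additive.toMul x : T.M) : G) * g⁻¹) • g • P = g • _ • P
  rw [smul_smul, smul_smul, inv_mul_cancel_right]

theorem cj_comp (g : G) (hg : g • D.B = D.B) (c : Ω) (x : T.V) :
    T.cj g hg x ∈ T.comp (g • c) ↔ x ∈ T.comp c := by
  constructor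
  · intro h C hC hc
    have h1 := h (g • C) (D.smul_blocks g hC) (Set.smul_mem_smul_set hc)
    rw [show ((Additive.toMul (T.cj g hg x) : T.M) : G) =
      g * ((Additive.toMul x : T.M) : G) * g⁻¹ from rfl, smul_smul, inv_mul_cancel_right,
      mul_smul] at h1
    exact smul_left_cancel g h1
  · intro h C hC hc
    have hc' : c ∈ g⁻¹ • C := Set.mem_smul_set_iff_inv_smul_mem.2 (by rwa [inv_inv])
    have h1 := h _ (D.smul_blocks g⁻¹ hC) hc'
    show (g * ((Additive.toMul x : T.M) : G) * g⁻¹) • C = C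
    rw [mul_smul, mul_smul, h1, smul_inv_smul]

/-- a subgroup which is a union of centre groups is an intersection of stabilisers, so sums of
centre groups are closed -/
theorem comp_le_iSup [Finite Ω] (s : Set D.B) (j : D.B) (x : T.V)
    (hx : x ∈ ⨆ i ∈ s, T.comp i.1) (h0 : x ≠ 0) (hxj : x ∈ T.comp j.1) :
    T.comp j.1 ≤ ⨆ i ∈ s, T.comp i.1 := by
  obtain ⟨o, ho⟩ := D.exists_notMem_axis
  intro y hy
  by_contra hyU
  obtain ⟨C, hC, hoC, hyC, hall⟩ := T.exists_separating ho hyU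
  have hle : (⨆ i ∈ s, T.comp i.1) ≤ T.st C :=
    iSup₂_le fun i hi => T.comp_le_st hC
      (hall i.1 i.2 (le_iSup₂ (f := fun (a : D.B) (_ : a ∈ s) => T.comp a.1) i hi))
  exact hyC (T.comp_le_st hC (T.mem_of_mem_st h0 j.2 hxj hC (ne_B_of_off ho hoC) (hle hx)) hy)

/-- a union of centre groups of order `z ^ (n - 1)` is the stabiliser of a block through `o` -/
theorem eq_st [Finite Ω] {o : Ω} (ho : o ∉ D.B) (W : AddSubgroup T.V)
    (hW : Nat.card W = T.z ^ (T.n - 1))
    (hcl : ∀ c ∈ D.B, ∀ x ∈ W, x ≠ 0 → x ∈ T.comp c → T.comp c ≤ W) :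
    ∃ C ∈ D.blocks, o ∈ C ∧ T.st C = W := by
  haveI := T.finite_V
  obtain ⟨x, hx⟩ : ∃ x, x ∉ W := by
    by_contra h
    push Not at h
    rw [(AddSubgroup.eq_top_iff' W).2 h, AddSubgroup.card_top, T.card_V] at hW
    have := Nat.pow_right_injective T.one_lt_z hW
    have := T.two_le_n
    omega
  obtain ⟨C, hC, hoC, -, hall⟩ := T.exists_separating ho hx
  refine ⟨C, hC, hoC, ?_⟩
  have hle : W ≤ T.st C := by
    intro y hy
    by_cases h0 : y = 0
    · rw [h0]; exact zero_mem _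
    obtain ⟨c, hc, hyc, -, -⟩ := T.comp_unique h0
    exact T.comp_le_st hC (hall c hc (hcl c hc y hy h0 hyc)) hyc
  symm
  exact AddSubgroup.eq_of_le_of_card_ge hle (by rw [hW, T.card_st hC (ne_B_of_off ho hoC)])

/-- an element fixing `B`, fixing a block `C` pointwise and all blocks through a point `c` of
`B ∩ C` shifts translations by translations with centre `c` -/
theorem sub_mem_comp [Finite Ω] {c o : Ω} (hc : c ∈ D.B) (ho : o ∉ D.B) (g : G)
    (hg : g • D.B = D.B) (hgo : g • o = o) (hgc : D.Centre g c) (x : T.V) :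
    T.cj g hg x - x ∈ T.comp c := by
  set d := T.cj g hg x - x with hd
  set P := T.act x o with hP
  have hPB : P ∉ D.B := T.act_notMem x ho
  have hdP : T.act d P = g • P := by
    rw [hP, ← T.act_add, hd, sub_add_cancel]
    conv_lhs => rw [← hgo]
    exact T.act_cj g hg x o
  by_cases h0 : d = 0
  · rw [h0]; exact zero_mem _
  have hQ : P ≠ g • P := fun e => h0 (T.act_inj hPB (by rw [hdP, T.act_zero, ← e]))
  obtain ⟨c0, hc0, hd0, -, -⟩ := T.comp_unique h0
  suffices c0 = c from this ▸ hd0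
  by_contra hne
  have hsame : ∀ (e : Ω) (he : e ∈ D.B), (∀ C ∈ D.blocks, e ∈ C → P ∈ C → g • P ∈ C) →
      {C ∈ D.blocks | e ∈ C ∧ P ∈ C} = {C ∈ D.blocks | P ∈ C ∧ g • P ∈ C} := by
    intro e he h
    refine Set.eq_of_subset_of_ncard_le (fun C ⟨hC, h1, h2⟩ => ⟨hC, h2, h C hC h1 h2⟩) ?_
      (Set.toFinite _)
    rw [D.join P (g • P) hQ, D.join e P (fun e' => hPB (e' ▸ he))]
  have h1 := hsame c hc fun C hC hcC hPC => (hgc C hC hcC) ▸ Set.smul_mem_smul_set hPC
  have h2 := hsame c0 hc0 fun C hC hcC hPC => by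
    rw [← hdP]
    exact (hd0 C hC hcC) ▸ Set.smul_mem_smul_set hPC
  have hlt : {C ∈ D.blocks | c ∈ C ∧ P ∈ C}.ncard < {C ∈ D.blocks | c ∈ C ∧ c0 ∈ C}.ncard := by
    refine Set.ncard_lt_ncard ?_ (Set.toFinite _)
    refine (Set.ssubset_iff_of_subset (fun C hC => ?_)).2
      ⟨D.B, ⟨D.axis_mem, hc, hc0⟩, fun h => hPB h.2.2⟩
    have hC0 : C ∈ {C ∈ D.blocks | c0 ∈ C ∧ P ∈ C} := by rw [h2, ← h1]; exact hC
    exact ⟨hC.1, hC.2.1, hC0.2.1⟩
  rw [D.join c P (fun e => hPB (e ▸ hc)), D.join c c0 (fun e => hne e.symm)] at hlt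
  exact lt_irrefl _ hlt

/-- the conjugate translations realise all transvections along a centre inside a stabiliser -/
theorem exists_transvection [Finite Ω] (W : AddSubgroup T.V) (c d : D.B)
    (hW : Nat.card W = T.z ^ (T.n - 1))
    (hcl : ∀ (j : D.B) (x : T.V), x ∈ W → x ≠ 0 → x ∈ T.comp j.1 → T.comp j.1 ≤ W)
    (hcW : T.comp c.1 ≤ W) (hdW : ¬ T.comp d.1 ≤ W) :
    ∀ x ∈ T.comp d.1, x ≠ 0 → ∀ y ∈ T.comp c.1, ∃ f : T.V ≃+ T.V, (∀ w ∈ W, f w = w) ∧
      f x = x + y ∧ (∀ v, f v - v ∈ T.comp c.1) ∧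
      ∀ i : D.B, ∃ j : D.B, ∀ v, v ∈ T.comp i.1 ↔ f v ∈ T.comp j.1 := by
  haveI := T.finite_V
  obtain ⟨o, ho⟩ := D.exists_notMem_axis
  obtain ⟨C, hC, hoC, rfl⟩ := T.eq_st ho W hW fun a ha x => hcl ⟨a, ha⟩ x
  intro x hx hx0 y hy
  have hne := ne_B_of_off ho hoC
  have hcC : c.1 ∈ C := by
    obtain ⟨a, ha, ha0⟩ := T.exists_ne_zero c.2
    exact T.mem_of_mem_st ha0 c.2 ha hC hne (hcW ha)
  have hxC : x ∉ T.st C := fun h =>
    hdW (T.comp_le_st hC (T.mem_of_mem_st hx0 d.2 hx hC hne h))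
  obtain ⟨g, rfl⟩ := hC
  have hc' : g⁻¹ • c.1 ∈ D.B := Set.mem_smul_set_iff_inv_smul_mem.1 hcC
  let Y : T.comp (g⁻¹ • c.1) → G := fun a => g * ((Additive.toMul a.1 : T.M) : G) * g⁻¹
  have hfix : ∀ a P, P ∈ g • D.B → Y a • P = P := by
    intro a P hP
    show (g * _ * g⁻¹) • P = P
    rw [mul_smul, mul_smul, T.fix_B _ (Additive.toMul a.1).2 _
      (Set.mem_smul_set_iff_inv_smul_mem.1 hP), smul_inv_smul]
  have hcen : ∀ a, D.Centre (Y a) c.1 := by
    intro a C' hC' hcC'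
    show (g * _ * g⁻¹) • C' = C'
    rw [mul_smul, mul_smul,
      a.2 _ (D.smul_blocks g⁻¹ hC') (Set.smul_mem_smul_set hcC'), smul_inv_smul]
  have hB : ∀ a, Y a • D.B = D.B := fun a => hcen a _ D.axis_mem c.2
  have hYo : ∀ a, Y a • o = o := fun a => hfix a o hoC
  let F : T.comp (g⁻¹ • c.1) → T.comp c.1 := fun a =>
    ⟨T.cj (Y a) (hB a) x - x, T.sub_mem_comp c.2 ho _ (hB a) (hYo a) (hcen a) x⟩
  have hF : Function.Injective F := by
    intro a b hab
    have h1 : T.cj (Y a) (hB a) x = T.cj (Y b) (hB b) x := sub_left_inj.1 (congrArg Subtype.val hab)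
    have h2 : Y a • T.act x o = Y b • T.act x o := by
      rw [← T.act_cj _ (hB a), ← T.act_cj _ (hB b), h1, hYo, hYo]
    have hxo : g⁻¹ • T.act x o ∉ D.B := fun h => hxC
      ((T.act_mem_iff (D.smul_blocks g D.axis_mem) ho hoC).1
        (Set.mem_smul_set_iff_inv_smul_mem.2 h))
    refine Subtype.ext (T.act_inj hxo ?_)
    simp only [Y, mul_smul] at h2
    exact smul_left_cancel g h2
  have hbij : Function.Surjective F :=
    ((Nat.bijective_iff_injective_and_card F).2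
      ⟨hF, by rw [T.card_comp hc', T.card_comp c.2]⟩).2
  obtain ⟨a, ha⟩ := hbij ⟨y, hy⟩
  have ha' : T.cj (Y a) (hB a) x - x = y := congrArg Subtype.val ha
  refine ⟨T.cj (Y a) (hB a), fun w hw => ?_, by rw [← ha']; abel,
    fun v => T.sub_mem_comp c.2 ho _ (hB a) (hYo a) (hcen a) v,
    fun i => ⟨⟨Y a • i.1, (D.smul_mem_axis (hB a)).2 i.2⟩,
      fun v => (T.cj_comp (Y a) (hB a) i.1 v).symm⟩⟩
  refine T.act_inj ho ?_
  conv_lhs => rw [← hYo a]
  rw [T.act_cj, hfix a _ ((T.act_mem_iff (D.smul_blocks g D.axis_mem) ho hoC).2 hw)]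

end Transl

end CfsgLib.Ito
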